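import Cfsg.Agent.Lib.Fusion.Comp.Layer

/-!
# Extending automorphisms of a normal subsystem to a strongly closed subgroup

For a normal subsystem `M` over `V` and a strongly closed subgroup `U`, a coprime automorphism of
`M` on `X` fixing `V ⊓ U ≤ X` pointwise extends to `X ⊔ U`, moving `U` only inside `V`.
-/

set_option autoImplicit false
set_option linter.unusedSectionVars false

namespace CfsgLib.Fusion.Comp

open Cfsg Cfsg.FusionSystem CfsgLib.Fusion CfsgLib.FusionQuot CfsgLib.Fusion.Inter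
  CfsgLib.Fusion.SatCriterion

variable {Ω : Type*} [Group Ω] {S U V X R : Subgroup Ω} {F : Cfsg.FusionSystem S}
  {M : Cfsg.FusionSystem V} {p : ℕ}

theorem isTC_of_isCentric (hM : M.IsInvariantIn F) (hX : M.IsCentric X) : IsTC F V X :=
  ⟨hX.1, fun _ hR => by
    obtain ⟨φ, hφ, rfl⟩ := hR
    exact CenSub.centralizerIn_le_of_conj hM hX hφ⟩

/-- Coprime automorphisms of a normal subsystem at centric subgroups lift to `R C_S(R)`. -/
theorem exists_lift_of_normal [Finite S] [Fact p.Prime] (hS : IsPGroup p S) (hF : F.IsSaturated p)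
    (hM : M.IsNormalIn F p) (h : Setup F M M p) (hTC : IsTC F V R) (hR : F.IsFullyCentralized R)
    {a : MulAut R} (ha : a ∈ M.autGroup R) (hco : (orderOf a).Coprime p) :
    ∃ β ∈ h.sideBoth hR.1, (orderOf β).Coprime p ∧
      ∀ x : R, β (Subgroup.inclusion le_sup_left x) = Subgroup.inclusion le_sup_left (a x) := by
  have : Finite V := finite_of_le hM.1.2.2.2.1.1
  obtain ⟨M', hM'F, hM'M, hHom⟩ : ∃ M' : Cfsg.FusionSystem (V ⊓ V), M'.IsNormalIn F p ∧
      M'.IsNormalIn M p ∧ ∀ P, M'.Hom P = M.Hom P := by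
    have key : ∀ W : Subgroup Ω, V = W → ∃ M' : Cfsg.FusionSystem W, M'.IsNormalIn F p ∧
        M'.IsNormalIn M p ∧ ∀ P, M'.Hom P = M.Hom P := by
      rintro _ rfl
      exact ⟨M, hM, self_isNormalIn hM.1.1, fun _ => rfl⟩
    exact key _ (inf_idem V).symm
  have hTC' : IsTC F (V ⊓ V) R := by rwa [inf_idem]
  have h1 : a ∈ h.gam R := by
    rw [← h.autGroup_inter_eq hTC']
    refine (mem_autGroup_iff_hom hTC'.1).2 (h.le_inter hM'F hM'M hM'M R ?_)
    rw [hHom]
    exact (mem_autGroup_iff_hom hTC.1).1 ha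
  exact h.exists_coprime_lift (h.gam_le_liftAut hTC'.1 hR h1) hco

/-- The conditions on the automorphism to be extended. -/
structure Cond (M : Cfsg.FusionSystem V) (p : ℕ) (U X : Subgroup Ω) (α : MulAut X) : Prop where
  le : X ≤ V
  inf_le : V ⊓ U ≤ X
  mem : α ∈ M.autGroup X
  coprime : (orderOf α).Coprime p
  fix : ∀ x : X, (x : Ω) ∈ U → α x = x

/-- Conjugates under `α` of conjugation by `U` are induced by `S`. -/
def Act (S U X : Subgroup Ω) (α : MulAut X) : Prop :=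
  ∀ u ∈ U, ∀ hu : u ∈ Subgroup.normalizer (X : Set Ω),
    α * conjAut X u hu * α⁻¹ ∈ autInducedBy S X

/-- An extension to `X ⊔ U` moving `U` only inside `V`. -/
def HasExt (F : Cfsg.FusionSystem S) (V U X : Subgroup Ω) (α : MulAut X) : Prop :=
  ∃ ψ ∈ F.Hom (X ⊔ U), (∀ x : X, ψ (Subgroup.inclusion le_sup_left x) = ((α x : X) : Ω)) ∧
    (∀ u : U, ψ (Subgroup.inclusion le_sup_right u) ∈ U) ∧
    ∀ u : U, (u : Ω)⁻¹ * ψ (Subgroup.inclusion le_sup_right u) ∈ V

/-- The automorphisms trivial on `X/W` and acting on `W` as `U` does. -/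
def shear (F : Cfsg.FusionSystem S) (U X W : Subgroup Ω) (hWX : W ≤ X) : Subgroup (MulAut X) where
  carrier := {β | β ∈ F.autGroup X ∧ (∀ x : X, (x : Ω)⁻¹ * ((β x : X) : Ω) ∈ W) ∧
    ∃ u ∈ U, ∀ w : W, ((β (Subgroup.inclusion hWX w) : X) : Ω) = u * w * u⁻¹}
  one_mem' := ⟨one_mem _, fun x => by simp, 1, one_mem U, fun w => by simp⟩
  mul_mem' := by
    rintro β γ ⟨hβ, hd, u, hu, hβW⟩ ⟨hγ, hd', u', hu', hγW⟩
    refine ⟨mul_mem hβ hγ, fun x => ?_, u * u', mul_mem hu hu', fun w => ?_⟩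
    · have h1 := W.mul_mem (hd' x) (hd (γ x))
      rwa [mul_assoc, mul_inv_cancel_left] at h1
    · have hw : ((γ (Subgroup.inclusion hWX w) : X) : Ω) ∈ W := by
        have := W.mul_mem w.2 (hd' (Subgroup.inclusion hWX w))
        rwa [Subgroup.coe_inclusion, mul_inv_cancel_left] at this
      rw [MulAut.mul_apply,
        show γ (Subgroup.inclusion hWX w) = Subgroup.inclusion hWX (⟨_, hw⟩ : W) from rfl, hβW]
      show u * ((γ (Subgroup.inclusion hWX w) : X) : Ω) * u⁻¹ = _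
      rw [hγW]
      group
  inv_mem' := by
    rintro β ⟨hβ, hd, u, hu, hβW⟩
    have hd' : ∀ x : X, (x : Ω)⁻¹ * (((β⁻¹ : MulAut X) x : X) : Ω) ∈ W := fun x => by
      have h1 := W.inv_mem (hd ((β⁻¹ : MulAut X) x))
      rwa [MulAut.apply_inv_self, mul_inv_rev, inv_inv] at h1
    refine ⟨inv_mem hβ, hd', u⁻¹, inv_mem hu, fun w => ?_⟩
    have hw : (((β⁻¹ : MulAut X) (Subgroup.inclusion hWX w) : X) : Ω) ∈ W := by
      have := W.mul_mem w.2 (hd' (Subgroup.inclusion hWX w))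
      rwa [Subgroup.coe_inclusion, mul_inv_cancel_left] at this
    have h1 := hβW ⟨_, hw⟩
    rw [show Subgroup.inclusion hWX (⟨_, hw⟩ : W) = (β⁻¹ : MulAut X) (Subgroup.inclusion hWX w)
      from rfl, MulAut.apply_inv_self, Subgroup.coe_inclusion] at h1
    rw [h1]
    group

variable [Finite S] [Fact p.Prime]

theorem shear_isPGroup (hS : IsPGroup p S) (hUS : U ≤ S) (hXS : X ≤ S) {W : Subgroup Ω}
    (hWX : W ≤ X) : IsPGroup p (shear F U X W hWX) := by
  rintro ⟨β, hβF, hd, u, hu, hβW⟩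
  obtain ⟨k, hk⟩ := hS ⟨u, hUS hu⟩
  have hk' : u ^ p ^ k = 1 := congrArg Subtype.val hk
  have hpow : ∀ (n : ℕ) (w : W), (((β ^ n) (Subgroup.inclusion hWX w) : X) : Ω) =
      u ^ n * w * (u ^ n)⁻¹ := by
    intro n
    induction n with
    | zero => intro w; simp
    | succ n ih =>
      intro w
      have hw : ((β (Subgroup.inclusion hWX w) : X) : Ω) ∈ W := by
        have := W.mul_mem w.2 (hd (Subgroup.inclusion hWX w))
        rwa [Subgroup.coe_inclusion, mul_inv_cancel_left] at this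
      rw [pow_succ, MulAut.mul_apply,
        show β (Subgroup.inclusion hWX w) = Subgroup.inclusion hWX (⟨_, hw⟩ : W) from rfl, ih]
      show u ^ n * ((β (Subgroup.inclusion hWX w) : X) : Ω) * (u ^ n)⁻¹ = _
      rw [hβW]
      group
  set κ := β ^ p ^ k with hκ
  have hκfix : ∀ w : W, κ (Subgroup.inclusion hWX w) = Subgroup.inclusion hWX w := fun w =>
    Subtype.ext (by rw [hκ, hpow, hk']; simp)
  have hκd : ∀ x : X, (x : Ω)⁻¹ * ((κ x : X) : Ω) ∈ W := disp_pow hd _
  have hpow2 : ∀ (n : ℕ) (x : X), (κ ^ n) x = x * (x⁻¹ * κ x) ^ n := by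
    intro n
    induction n with
    | zero => simp
    | succ n ih =>
      intro x
      have hz : κ (x⁻¹ * κ x) = x⁻¹ * κ x := hκfix ⟨_, hκd x⟩
      rw [pow_succ', MulAut.mul_apply, ih, map_mul, map_pow, hz, pow_succ' (x⁻¹ * κ x), ← mul_assoc,
        mul_inv_cancel_left]
  have : Finite X := finite_of_le hXS
  obtain ⟨m, hm⟩ := IsPGroup.iff_card.1 (hS.to_le hXS)
  refine ⟨k + m, Subtype.ext (MulEquiv.ext fun x => ?_)⟩
  show (β ^ p ^ (k + m)) x = x
  rw [pow_add, pow_mul, ← hκ, hpow2, ← hm, pow_card_eq_one', mul_one]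

theorem conj_mem_shear (hU : F.StronglyClosed U) (hV : F.StronglyClosed V) {α : MulAut X}
    (hX : X ≤ V) (hWX : V ⊓ U ≤ X) (hα : α ∈ F.autGroup X) (hfix : ∀ x : X, (x : Ω) ∈ U → α x = x)
    {u : Ω} (hu : u ∈ U) (hun : u ∈ Subgroup.normalizer (X : Set Ω)) :
    α * conjAut X u hun * α⁻¹ ∈ shear F U X (V ⊓ U) hWX := by
  have huS := hU.1 hu
  have hXS := hX.trans hV.1
  have hd : ∀ y : X, (y : Ω)⁻¹ * ((conjAut X u hun y : X) : Ω) ∈ V ⊓ U := by
    intro y
    rw [conjAut_apply]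
    refine ⟨V.mul_mem (V.inv_mem (hX y.2))
      (conj_mem_of_mem_normalizer (stronglyClosed_le_normalizer hV huS) (hX y.2)), ?_⟩
    rw [← mul_assoc, ← mul_assoc]
    refine U.mul_mem ?_ (U.inv_mem hu)
    have := conj_mem_of_mem_normalizer (stronglyClosed_le_normalizer hU (S.inv_mem (hXS y.2))) hu
    rwa [inv_inv] at this
  refine ⟨mul_mem (mul_mem hα (autInducedBy_le_autGroup F hXS (conjAut_mem_autInducedBy huS hun)))
    (inv_mem hα), fun x => ?_, u, hu, fun w => ?_⟩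
  · have h1 := hd ((α⁻¹ : MulAut X) x)
    have h2 : α ((((α⁻¹ : MulAut X) x))⁻¹ * conjAut X u hun ((α⁻¹ : MulAut X) x)) =
        ((α⁻¹ : MulAut X) x)⁻¹ * conjAut X u hun ((α⁻¹ : MulAut X) x) := hfix _ h1.2
    rw [map_mul, map_inv, MulAut.apply_inv_self] at h2
    have h3 := congrArg Subtype.val h2
    rw [Subgroup.coe_mul, Subgroup.coe_mul, Subgroup.coe_inv, Subgroup.coe_inv] at h3
    rw [← h3] at h1
    exact h1
  · have h1 : (α⁻¹ : MulAut X) (Subgroup.inclusion hWX w) = Subgroup.inclusion hWX w :=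
      α.injective (by rw [MulAut.apply_inv_self, hfix _ w.2.2])
    rw [MulAut.mul_apply, MulAut.mul_apply, h1, hfix _ ?_, conjAut_apply]
    · rfl
    · rw [conjAut_apply]
      exact U.mul_mem (U.mul_mem hu w.2.2) (U.inv_mem hu)

theorem mem_normalizer_of_inf_le (hU : F.StronglyClosed U) (hV : F.StronglyClosed V) (hX : X ≤ V)
    (hWX : V ⊓ U ≤ X) {u : Ω} (hu : u ∈ U) : u ∈ Subgroup.normalizer (X : Set Ω) := by
  have key : ∀ v ∈ U, ∀ x ∈ X, v * x * v⁻¹ ∈ X := fun v hv x hx => by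
    have hxS := hV.1 (hX hx)
    have h1 : x⁻¹ * (v * x * v⁻¹) ∈ V ⊓ U := by
      refine ⟨V.mul_mem (V.inv_mem (hX hx))
        (conj_mem_of_mem_normalizer (stronglyClosed_le_normalizer hV (hU.1 hv)) (hX hx)), ?_⟩
      rw [← mul_assoc, ← mul_assoc]
      refine U.mul_mem ?_ (U.inv_mem hv)
      have := conj_mem_of_mem_normalizer (stronglyClosed_le_normalizer hU (S.inv_mem hxS)) hv
      rwa [inv_inv] at this
    have := X.mul_mem hx (hWX h1)
    rwa [mul_inv_cancel_left] at this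
  refine Subgroup.mem_normalizer_iff.2 fun n => ⟨key u hu n, fun hn => ?_⟩
  have := key u⁻¹ (U.inv_mem hu) _ hn
  simpa [mul_assoc] using this

/-- Reduction to fully normalized subgroups. -/
theorem hasExt_of_fullyNormalized (hS : IsPGroup p S) (hF : F.IsSaturated p)
    (hM : M.IsInvariantIn F) (hU : F.StronglyClosed U) {α : MulAut X} (hc : Cond M p U X α)
    (key : ∀ (R : Subgroup Ω) (β : MulAut R), Cond M p U R β → F.IsFullyNormalized R →
      Act S U R β → (IsTC F V X → IsTC F V R) → HasExt F V U R β) : HasExt F V U X α := by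
  classical
  have hV : F.StronglyClosed V := hM.2.1
  have hXS : X ≤ S := hc.le.trans hV.1
  have : Finite X := finite_of_le hXS
  have : Finite (MulAut X) := finite_mulAut
  obtain ⟨R, hXR, hR⟩ := exists_isFullyNormalized F hXS
  obtain ⟨g₀, hg₀⟩ := exists_iso_of_isConj hXR
  have hRS : R ≤ S := hR.1
  have : Finite R := finite_of_le hRS
  have : Finite (MulAut R) := finite_mulAut
  obtain ⟨-, P₀, hP₀⟩ := isFullyAutomized_of_isFullyNormalized hS hF hR
  set Sg := ((shear F U X (V ⊓ U) hc.inf_le).map (MulAut.congr g₀).toMonoidHom).subgroupOf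
    (F.autGroup R) with hSg
  have hSgp : IsPGroup p Sg :=
    ((shear_isPGroup hS hU.1 hXS hc.inf_le).map _).comap_of_injective _ (Subgroup.subtype_injective _)
  obtain ⟨k, hk⟩ := exists_conj_le_sylow P₀ hSgp
  set g : X ≃* R := g₀.trans ((k : MulAut R) : R ≃* R) with hgdef
  have hg : IsFIso F g := hg₀.trans ((mem_autGroup_iff hRS).1 k.2)
  have hshear : ∀ a ∈ shear F U X (V ⊓ U) hc.inf_le, MulAut.congr g a ∈ autInducedBy S R := by
    intro a ha
    have hm : MulAut.congr g₀ a ∈ F.autGroup R := hg₀.congr_mem ha.1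
    have h1 := hk ⟨MulAut.congr g₀ a, hm⟩ ⟨a, ha, rfl⟩
    rw [hP₀, Subgroup.mem_subgroupOf] at h1
    rwa [hgdef, ← congr_congr, congr_eq_conj]
  have hUN : X ⊔ U ≤ normalizerIn S X := sup_le (le_normalizerIn hXS)
    fun u hu => ⟨hU.1 hu, mem_normalizer_of_inf_le hU hV hc.le hc.inf_le hu⟩
  have hext : X ⊔ U ≤ extender S X (R.subtype.comp g.toMonoidHom) := by
    refine sup_le (le_extender hXS fun x => hRS (g x).2) fun u hu => ?_
    have hun := mem_normalizer_of_inf_le hU hV hc.le hc.inf_le hu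
    refine (mem_extender_iff_congr g (fun _ => rfl) (hU.1 hu) hun).2 (hshear _ ?_)
    have h1 := conj_mem_shear (α := 1) hU hV hc.le hc.inf_le (one_mem _) (fun _ _ => rfl) hu hun
    rwa [one_mul, inv_one, mul_one] at h1
  obtain ⟨G, hG, -, hGX⟩ := hg.exists_extension (isReceptive_of_isFullyNormalized hS hF hR)
    (le_sup_left (b := U)) hUN
    fun y hy => (mem_extender_iff_congr g (fun _ => rfl) (hUN hy).1 (hUN hy).2).1 (hext hy)
  have hGU : ∀ u : U, G (Subgroup.inclusion le_sup_right u) ∈ U := fun u =>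
    stronglyClosed_apply_mem hU hG _ u.2
  have : Finite U := finite_of_le hU.1
  have hGsurj : (G.comp (Subgroup.inclusion (le_sup_right : U ≤ X ⊔ U))).range = U :=
    range_eq_of_le (hom_inj (restrict_mem hG le_sup_right)) hGU
  have hRV : R ≤ V := conj_le hV hc.le hg.isConj
  have hWR : V ⊓ U ≤ R := by
    intro w hw
    obtain ⟨u, hu⟩ := hGsurj.ge hw.2
    have huV : (u : Ω) ∈ V := (stronglyClosed_apply_iff hV hG _).1 (by
      show G (Subgroup.inclusion le_sup_right u) ∈ V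
      exact (hu.symm ▸ hw.1 :))
    have h1 := hGX ⟨u, hc.inf_le ⟨huV, u.2⟩⟩
    exact (show w = (g ⟨u, hc.inf_le ⟨huV, u.2⟩⟩ : Ω) from hu.symm.trans h1) ▸
      (g _).2
  have hcR : Cond M p U R (MulAut.congr g α) := by
    refine ⟨hRV, hWR, CfsgLib.FusionQuot.congr_mem_autGroup_of_invariant hM hc.le hRV hg hc.mem,
      by rw [orderOf_congr]; exact hc.coprime, fun y hy => ?_⟩
    obtain ⟨x, rfl⟩ := g.surjective y
    have hxU : (x : Ω) ∈ U := (stronglyClosed_apply_iff hU hG _).1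
      (show G (Subgroup.inclusion le_sup_left x) ∈ U by
        rw [show G (Subgroup.inclusion le_sup_left x) = (g x : Ω) from hGX x]
        exact hy)
    rw [congr_apply, MulEquiv.symm_apply_apply, hc.fix x hxU]
  have hact : Act S U R (MulAut.congr g α) := by
    intro u' hu' hn'
    obtain ⟨u, hu⟩ := hGsurj.ge hu'
    have hun := mem_normalizer_of_inf_le hU hV hc.le hc.inf_le u.2
    have h1 := congr_conjAut_eq_of_extends le_sup_left hGX (Subgroup.mem_sup_right u.2) hun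
    have h2 : conjAut R u' hn' = MulAut.congr g (conjAut X (u : Ω) hun) := by
      rw [h1]
      exact MulEquiv.ext fun y => Subtype.ext (by
        rw [conjAut_apply, conjAut_apply]
        rw [show G ⟨(u : Ω), Subgroup.mem_sup_right u.2⟩ = u' from hu])
    rw [h2, ← map_inv, ← map_mul, ← map_mul]
    exact hshear _ (conj_mem_shear hU hV hc.le hc.inf_le
      (CfsgLib.FusionQuot.autGroup_le_of_subsystem hM.1 X hc.mem) hc.fix u.2 hun)
  obtain ⟨ψ', hψ', hag', hU', hd'⟩ := key R _ hcR hR hact fun h => h.conj hV hg.isConj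
  -- back along `G`
  have hGm : ∀ z, G z ∈ R ⊔ U := forall_mem_of_sup
    (fun x => Subgroup.mem_sup_left (by
      rw [show G (Subgroup.inclusion le_sup_left x) = (g x : Ω) from hGX x]
      exact (g x).2))
    fun u => Subgroup.mem_sup_right (hGU u)
  obtain ⟨ρ, hρ, hρx⟩ := F.inv_mem hG
  have hran : R ⊔ U ≤ G.range := sup_le
    (fun y hy => ⟨Subgroup.inclusion le_sup_left (g.symm ⟨y, hy⟩),
      (hGX _).trans (congrArg Subtype.val (g.apply_symm_apply ⟨y, hy⟩))⟩)
    fun y hy => by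
      obtain ⟨u, hu⟩ := hGsurj.ge hy
      exact ⟨_, hu⟩
  have hψm : ∀ z, (ψ'.comp (G.codRestrict _ hGm)) z ∈ G.range := fun z =>
    hran (forall_mem_of_sup (fun x => Subgroup.mem_sup_left (by rw [hag']; exact (MulAut.congr g α x).2))
      (fun u => Subgroup.mem_sup_right (hU' u)) _)
  refine ⟨_, F.comp_mem (F.comp_mem hG hψ' hGm) hρ hψm, fun x => ?_, fun u => ?_, fun u => ?_⟩
  · have h1 : ψ' ⟨G (Subgroup.inclusion le_sup_left x), hGm _⟩ =
        G (Subgroup.inclusion le_sup_left (α x)) := by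
      rw [show (⟨G (Subgroup.inclusion le_sup_left x), hGm _⟩ : ↥(R ⊔ U)) =
        Subgroup.inclusion le_sup_left (g x) from Subtype.ext (hGX x), hag', congr_apply,
        MulEquiv.symm_apply_apply]
      exact (hGX _).symm
    exact (congrArg ρ (Subtype.ext h1 : (⟨_, hψm _⟩ : G.range) =
      ⟨_, Subgroup.inclusion le_sup_left (α x), rfl⟩)).trans (hρx _)
  · obtain ⟨u', hu'⟩ := hGsurj.ge (hU' ⟨_, hGU u⟩)
    have h1 : ψ' ⟨G (Subgroup.inclusion le_sup_right u), hGm _⟩ =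
        G (Subgroup.inclusion le_sup_right u') :=
      (congrArg ψ' (Subtype.ext rfl)).trans hu'.symm
    have h2 := (congrArg ρ (Subtype.ext h1 : (⟨_, hψm _⟩ : G.range) = ⟨_, _, rfl⟩)).trans (hρx _)
    exact h2.symm ▸ u'.2
  · obtain ⟨u', hu'⟩ := hGsurj.ge (hU' ⟨_, hGU u⟩)
    have h1 : ψ' ⟨G (Subgroup.inclusion le_sup_right u), hGm _⟩ =
        G (Subgroup.inclusion le_sup_right u') :=
      (congrArg ψ' (Subtype.ext rfl)).trans hu'.symm
    have h2 := (congrArg ρ (Subtype.ext h1 : (⟨_, hψm _⟩ : G.range) = ⟨_, _, rfl⟩)).trans (hρx _)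
    refine (congrArg (fun z : Ω => (u : Ω)⁻¹ * z ∈ V) h2).mpr ?_
    refine (stronglyClosed_apply_iff hV hG
      ((Subgroup.inclusion le_sup_right u)⁻¹ * Subgroup.inclusion le_sup_right u')).1 ?_
    rw [map_mul, map_inv, ← h1]
    exact hd' ⟨_, hGU u⟩

/-- The extension at fully normalized centric subgroups. -/
theorem hasExt_core (hS : IsPGroup p S) (hF : F.IsSaturated p) (hM : M.IsNormalIn F p)
    (hU : F.StronglyClosed U) {α : MulAut R} (hc : Cond M p U R α) (hR : F.IsFullyNormalized R)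
    (hact : Act S U R α) (hTC : IsTC F V R) : HasExt F V U R α := by
  classical
  have h : Setup F M M p := ⟨hS, hF, hM.1, hM.1⟩
  have hV : F.StronglyClosed V := hM.1.2.2.2.1
  have hMinv := hM.1.2.2
  have hRS : R ≤ S := hR.1
  have hfc := isFullyCentralized_of_isFullyNormalized hS hF hR
  set W := R ⊔ centralizerIn S R with hW
  obtain ⟨β, hβ, hβco, hβx⟩ := exists_lift_of_normal hS hF hM h hTC hfc hc.mem hc.coprime
  have hWS : W ≤ S := sup_centralizerIn_le hRS
  have : Finite W := finite_of_le hWS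
  have hWc : F.IsCentric W := isCentric_sup hS hF hfc
  have hβF : β ∈ F.autGroup W := (h.sideBoth_le hRS hβ).1
  have hVn := stronglyClosed_le_normalizer hV
  have hUn : ∀ u ∈ U, u ∈ Subgroup.normalizer (R : Set Ω) := fun u hu =>
    mem_normalizer_of_inf_le hU hV hc.le hc.inf_le hu
  have : Finite R := finite_of_le hRS
  have : Finite (MulAut R) := finite_mulAut
  -- `Aut_S(R)` meets `Aut_M(R)` in `Aut_V(R)`
  have hMS : ∀ a ∈ M.autGroup R, a ∈ autInducedBy S R → a ∈ autInducedBy V R := by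
    have : Finite V := finite_of_le hV.1
    have hMn : M.IsFullyNormalized R := ⟨hc.le, fun Q hQ =>
      (good_of_isFullyNormalized hS hF hV hR hc.le).2 Q
        (CfsgLib.FusionQuot.isConj_of_subsystem hMinv.1 hQ)⟩
    obtain ⟨-, P₁, hP₁⟩ := isFullyAutomized_of_isFullyNormalized (hS.to_le hV.1) hM.1.1 hMn
    intro a ha haS
    have hp : IsPGroup p ((autInducedBy S R).subgroupOf (M.autGroup R)) :=
      (isPGroup_autInducedBy hS R).comap_of_injective _ (Subgroup.subtype_injective _)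
    have heq := P₁.is_maximal' hp (by
      rw [hP₁]
      exact fun x hx => autInducedBy_mono hV.1 R hx)
    have hm : (⟨a, ha⟩ : M.autGroup R) ∈ (autInducedBy S R).subgroupOf (M.autGroup R) := haS
    rw [heq, hP₁] at hm
    exact hm
  have hext : ∀ u ∈ U, ∀ huW : u ∈ Subgroup.normalizer (W : Set Ω),
      ∃ t ∈ V, ∃ c ∈ centralizerIn S R, ∃ hn : t * c * u ∈ Subgroup.normalizer (W : Set Ω),
        β * conjAut W u huW * β⁻¹ = conjAut W (t * c * u) hn := by
    intro u hu huW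
    have huN := hUn u hu
    have huS := hU.1 hu
    set cu := conjAut W u huW with hcu
    set e := β * cu * β⁻¹ * cu⁻¹ with he
    have hcuF : cu ∈ pairStab F W R := ⟨autInducedBy_le_autGroup F hWS
      (conjAut_mem_autInducedBy huS huW), fun x => (Subgroup.mem_normalizer_iff.1 huN x).symm⟩
    have he1 : e ∈ h.sideBoth hRS := by
      rw [he, mul_assoc, mul_assoc]
      refine mul_mem hβ ?_
      rw [← mul_assoc]
      exact h.sideBoth_conj (le_inf hc.le hc.le) hcuF ((h.sideBoth hRS).inv_mem hβ)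
    set e₀ := α * conjAut R u huN * α⁻¹ * (conjAut R u huN)⁻¹ with he₀
    have hconj : conjAut R u huN ∈ F.autGroup R :=
      autInducedBy_le_autGroup F hRS (conjAut_mem_autInducedBy huS huN)
    have he₀M : e₀ ∈ M.autGroup R := by
      rw [he₀, mul_assoc, mul_assoc]
      refine mul_mem hc.mem ?_
      rw [← mul_assoc]
      exact CfsgLib.FusionQuot.conj_mem_autGroup_of_invariant hMinv hc.le hconj
        ((M.autGroup R).inv_mem hc.mem)
    have he₀S : e₀ ∈ autInducedBy S R :=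
      mul_mem (hact u hu huN) (inv_mem (conjAut_mem_autInducedBy huS huN))
    obtain ⟨t, htN, ht, hte⟩ := exists_eq_conjAut (hMS _ he₀M he₀S)
    have htW : t ∈ Subgroup.normalizer (W : Set Ω) := normalizer_sup_centralizerIn (hV.1 ht) htN
    have hagβ : Agree (le_sup_left : R ≤ W) β α := hβx
    have hage : Agree (le_sup_left : R ≤ W) e e₀ :=
      ((hagβ.mul (agree_conjAut le_sup_left huW huN)).mul hagβ.inv).mul
        (agree_conjAut le_sup_left huW huN).inv
    set e' := (conjAut W t htW)⁻¹ * e with he'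
    have he'fix : e' ∈ cenFix F R := by
      refine ⟨mul_mem (inv_mem (autInducedBy_le_autGroup F hWS
        (conjAut_mem_autInducedBy (hV.1 ht) htW))) (h.sideBoth_le hRS he1).1, fun x => ?_⟩
      have h2 := ((agree_conjAut le_sup_left htW htN).inv.mul hage) x
      rw [← hte, inv_mul_cancel] at h2
      exact h2
    have he's : e' ∈ h.sideBoth hRS := mul_mem ((h.sideBoth hRS).inv_mem
      (h.conjAut_mem_sideBoth (le_inf hc.le hc.le) ⟨ht, ht⟩ htN htW)) he1
    obtain ⟨c, hcW, hcC, hce⟩ := exists_eq_conjAut (h.exists_conjAut_of_fix hfc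
      (by rwa [inf_idem]) he'fix he's)
    refine ⟨t, ht, c, hcC, mul_mem (mul_mem htW hcW) huW, ?_⟩
    rw [← conjAut_mul (mul_mem htW hcW) huW, ← conjAut_mul htW hcW, ← hce, he', mul_inv_cancel_left, he,
      hcu, inv_mul_cancel_right]
  set N := W ⊔ U with hN
  have hUW : ∀ u ∈ U, u ∈ Subgroup.normalizer (W : Set Ω) := fun u hu =>
    normalizer_sup_centralizerIn (hU.1 hu) (hUn u hu)
  have hNN : N ≤ normalizerIn S W :=
    sup_le (le_normalizerIn hWS) fun u hu => ⟨hU.1 hu, hUW u hu⟩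
  have hNext : N ≤ extender S W (W.subtype.comp β.toMonoidHom) := by
    refine sup_le (le_extender hWS fun x => hWS (β x).2) fun u hu => ?_
    refine (mem_extender_iff_congr (β : W ≃* W) (fun _ => rfl) (hU.1 hu) (hUW u hu)).2 ?_
    rw [congr_eq_conj]
    obtain ⟨t, ht, c, hcC, hn, he⟩ := hext u hu (hUW u hu)
    rw [he]
    exact conjAut_mem_autInducedBy (S.mul_mem (S.mul_mem (hV.1 ht) hcC.1) (hU.1 hu)) hn
  obtain ⟨ψ, hψ, hψW, hψconj⟩ := exists_ext_aut hS hF hWc hβF le_sup_left hNN fun g hg => by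
    rw [← congr_eq_conj]
    exact (mem_extender_iff_congr (β : W ≃* W) (fun _ => rfl) (hNN hg).1 (hNN hg).2).1 (hNext hg)
  have hNS : N ≤ S := hNN.trans (normalizerIn_le S W)
  have : Finite N := finite_of_le hNS
  have hψN : ∀ z, ψ z ∈ N := forall_mem_of_sup
    (fun w => Subgroup.mem_sup_left (by
      rw [show ψ (Subgroup.inclusion le_sup_left w) = ((β w : W) : Ω) from hψW w]
      exact (β w).2))
    fun u => Subgroup.mem_sup_right (stronglyClosed_apply_mem hU hψ _ u.2)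
  obtain ⟨ψ₁, hψ₁, hψ₁x⟩ := LayerCore.exists_aut_of_mapsTo hψ hψN
  obtain ⟨n, hn, hnag⟩ := exists_coprime_pow (le_sup_left : W ≤ N) hβco ψ₁
    fun w => Subtype.ext ((hψ₁x _).trans (hψW w))
  set κ := ψ₁ ^ n with hκ
  have hκF : κ ∈ F.autGroup N := pow_mem hψ₁ n
  set L := V ⊔ W with hL
  have hLn : S ≤ Subgroup.normalizer (V : Set Ω) := hVn
  have hWd : ∀ w : W, (w : Ω)⁻¹ * ((β w : W) : Ω) ∈ V := by
    have hdR : ∀ x : R, (x : Ω)⁻¹ * ((β (Subgroup.inclusion le_sup_left x) : W) : Ω) ∈ V := fun x => by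
      rw [hβx]
      exact V.mul_mem (V.inv_mem (hc.le x.2)) (hc.le (α x).2)
    let K : Subgroup W :=
      { carrier := {w | (w : Ω)⁻¹ * ((β w : W) : Ω) ∈ V}
        one_mem' := by simp
        mul_mem' := by
          intro a b ha hb
          show ((a * b : W) : Ω)⁻¹ * ((β (a * b) : W) : Ω) ∈ V
          rw [map_mul, Subgroup.coe_mul, Subgroup.coe_mul,
            show ((a : Ω) * b)⁻¹ * (((β a : W) : Ω) * ((β b : W) : Ω)) =
              ((b : Ω)⁻¹ * ((a : Ω)⁻¹ * ((β a : W) : Ω)) * b) *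
                ((b : Ω)⁻¹ * ((β b : W) : Ω)) by group]
          exact V.mul_mem ((Subgroup.mem_normalizer_iff''.1 (hVn (hWS b.2)) _).1 ha) hb
        inv_mem' := by
          intro a ha
          show ((a⁻¹ : W) : Ω)⁻¹ * ((β a⁻¹ : W) : Ω) ∈ V
          rw [map_inv, Subgroup.coe_inv, Subgroup.coe_inv, inv_inv,
            show (a : Ω) * ((β a : W) : Ω)⁻¹ =
              (a : Ω) * ((a : Ω)⁻¹ * ((β a : W) : Ω))⁻¹ * (a : Ω)⁻¹ by group]
          exact conj_mem_of_mem_normalizer (hVn (hWS a.2)) (V.inv_mem ha) }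
    have hle : W ≤ K.map W.subtype := sup_le
      (fun y hy => ⟨⟨y, Subgroup.mem_sup_left hy⟩, hdR ⟨y, hy⟩, rfl⟩)
      fun y hy => ⟨⟨y, Subgroup.mem_sup_right hy⟩, (h.sideBoth_disp hβ hy).1, rfl⟩
    intro w
    obtain ⟨y, hy, hyw⟩ := hle w.2
    exact (Subtype.ext hyw : y = w) ▸ hy
  have hψd : ∀ z : N, (z : Ω)⁻¹ * ((ψ₁ z : N) : Ω) ∈ L := by
    let K : Subgroup N :=
      { carrier := {z | (z : Ω)⁻¹ * ((ψ₁ z : N) : Ω) ∈ L}
        one_mem' := by simp
        mul_mem' := by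
          intro a b ha hb
          show ((a * b : N) : Ω)⁻¹ * ((ψ₁ (a * b) : N) : Ω) ∈ L
          rw [map_mul, Subgroup.coe_mul, Subgroup.coe_mul,
            show ((a : Ω) * b)⁻¹ * (((ψ₁ a : N) : Ω) * ((ψ₁ b : N) : Ω)) =
              ((b : Ω)⁻¹ * ((a : Ω)⁻¹ * ((ψ₁ a : N) : Ω)) * b) *
                ((b : Ω)⁻¹ * ((ψ₁ b : N) : Ω)) by group]
          exact L.mul_mem ((Subgroup.mem_normalizer_iff''.1
            (normalizer_sup_of_mem (hVn (hNS b.2)) (hNN b.2).2) _).1 ha) hb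
        inv_mem' := by
          intro a ha
          show ((a⁻¹ : N) : Ω)⁻¹ * ((ψ₁ a⁻¹ : N) : Ω) ∈ L
          rw [map_inv, Subgroup.coe_inv, Subgroup.coe_inv, inv_inv,
            show (a : Ω) * ((ψ₁ a : N) : Ω)⁻¹ =
              (a : Ω) * ((a : Ω)⁻¹ * ((ψ₁ a : N) : Ω))⁻¹ * (a : Ω)⁻¹ by group]
          exact conj_mem_of_mem_normalizer
            (normalizer_sup_of_mem (hVn (hNS a.2)) (hNN a.2).2) (L.inv_mem ha) }
    have hle : N ≤ K.map N.subtype := by
      refine sup_le (fun y hy => ⟨⟨y, Subgroup.mem_sup_left hy⟩, Subgroup.mem_sup_right ?_, rfl⟩)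
        fun u hu => ⟨⟨u, Subgroup.mem_sup_right hu⟩, ?_, rfl⟩
      · rw [hψ₁x]
        show y⁻¹ * ψ ⟨y, _⟩ ∈ W
        rw [show ψ ⟨y, _⟩ = _ from hψW ⟨y, hy⟩]
        exact W.mul_mem (W.inv_mem hy) (β _).2
      · show u⁻¹ * ((ψ₁ ⟨u, _⟩ : N) : Ω) ∈ L
        rw [hψ₁x]
        set u' := ψ ⟨u, Subgroup.mem_sup_right hu⟩ with hu'
        obtain ⟨hN', hu'c⟩ := hψconj u (Subgroup.mem_sup_right hu)
        obtain ⟨t, ht, c, hcC, hn', he⟩ := hext u hu (hUW u hu)
        have h1 : conjAut W u' hN' = conjAut W (t * c * u) hn' := hu'c.trans he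
        have hz : (t * c * u)⁻¹ * u' ∈ centralizerIn S W := by
          refine ⟨S.mul_mem (S.inv_mem (S.mul_mem (S.mul_mem (hV.1 ht) hcC.1) (hU.1 hu)))
            (map_mem hψ _), (conjAut_eq_one_iff (mul_mem (inv_mem hn') hN')).1 ?_⟩
          rw [← conjAut_mul (inv_mem hn') hN', h1, ← conjAut_inv hn', inv_mul_cancel]
        have hzL : (t * c * u)⁻¹ * u' ∈ L :=
          Subgroup.mem_sup_right (centralizerIn_le_of_isCentric hWc hz)
        have htc : u⁻¹ * (t * c) * u ∈ L :=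
          (Subgroup.mem_normalizer_iff''.1 (normalizer_sup_of_mem (hVn (hU.1 hu)) (hUW u hu)) _).1
            (L.mul_mem (Subgroup.mem_sup_left ht)
              (Subgroup.mem_sup_right (Subgroup.mem_sup_right hcC)))
        have := L.mul_mem htc hzL
        rwa [show u⁻¹ * (t * c) * u * ((t * c * u)⁻¹ * u') = u⁻¹ * u' by group] at this
    intro z
    obtain ⟨y, hy, hyz⟩ := hle z.2
    exact (Subtype.ext hyz : y = z) ▸ hy
  have hκd := disp_pow hψd n
  have hκW : ∀ w : N, (w : Ω) ∈ W → (w : Ω)⁻¹ * ((κ w : N) : Ω) ∈ V := fun w hw => by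
    rw [show κ w = Subgroup.inclusion le_sup_left (β ⟨w, hw⟩) from hnag ⟨w, hw⟩]
    exact hWd ⟨w, hw⟩
  have hfinal : ∀ z : N, (z : Ω)⁻¹ * ((κ z : N) : Ω) ∈ V := by
    intro z
    have : (V.subgroupOf N).Normal := ⟨fun x hx w => conj_mem_of_mem_normalizer (hVn (hNS w.2)) hx⟩
    refine CenNormal.disp_mem_of_disp (hS.to_le hNS) κ hn (L := L.subgroupOf N)
      (N := V.subgroupOf N) (fun x hx => Stability.aut_mem hV hNS hκF hx) (fun w hw => ?_)
      (x := z) (hκd z)
    show (w : Ω)⁻¹ * ((κ w : N) : Ω) ∈ V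
    have hw' : (w : Ω) ∈ ((V ⊔ W : Subgroup Ω) : Set Ω) := hw
    rw [Subgroup.coe_mul_of_right_le_normalizer_left V W (hWS.trans hVn)] at hw'
    obtain ⟨v, hv, r, hr, hvr⟩ := hw'
    have hvr' : v * r = (w : Ω) := hvr
    have hrN : r ∈ N := Subgroup.mem_sup_left hr
    have hvN : v ∈ N := by
      have := N.mul_mem w.2 (N.inv_mem hrN)
      rwa [← hvr', mul_inv_cancel_right] at this
    obtain rfl : (⟨v, hvN⟩ * ⟨r, hrN⟩ : N) = w := Subtype.ext hvr'
    rw [map_mul, Subgroup.coe_mul, Subgroup.coe_mul,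
      show ((v : Ω) * r)⁻¹ * (((κ ⟨v, hvN⟩ : N) : Ω) * ((κ ⟨r, hrN⟩ : N) : Ω)) =
        (r⁻¹ * (v⁻¹ * ((κ ⟨v, hvN⟩ : N) : Ω)) * r) * (r⁻¹ * ((κ ⟨r, hrN⟩ : N) : Ω)) by group]
    refine V.mul_mem ((Subgroup.mem_normalizer_iff''.1 (hVn (hWS hr)) _).1 ?_) (hκW ⟨r, hrN⟩ hr)
    exact V.mul_mem (V.inv_mem hv) (Stability.aut_mem hV hNS hκF (x := ⟨v, hvN⟩) hv)
  have hle : R ⊔ U ≤ N := sup_le_sup_right le_sup_left U
  refine ⟨_, restrict_mem ((mem_autGroup_iff_hom hNS).1 hκF) hle, fun x => ?_, fun u => ?_,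
    fun u => hfinal (Subgroup.inclusion le_sup_right u)⟩
  · exact congrArg Subtype.val
      ((hnag (Subgroup.inclusion le_sup_left x)).trans (congrArg _ (hβx x)))
  · exact Stability.aut_mem hU hNS hκF (x := ⟨u, Subgroup.mem_sup_right u.2⟩) u.2

/-- Coprime automorphisms fixing `V ⊓ U` extend. -/
theorem hasExt (hS : IsPGroup p S) (hF : F.IsSaturated p) (hM : M.IsNormalIn F p)
    (hU : F.StronglyClosed U) {α : MulAut X} (hc : Cond M p U X α) : HasExt F V U X α := by
  refine hasExt_of_fullyNormalized hS hF hM.1.2.2 hU hc fun R β hcR hR _ _ => ?_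
  have hMinv := hM.1.2.2
  have hV : F.StronglyClosed V := hMinv.2.1
  have : Finite V := finite_of_le hV.1
  have hVp : IsPGroup p V := hS.to_le hV.1
  have hMn : M.IsFullyNormalized R := ⟨hcR.le, fun Q hQ =>
    (good_of_isFullyNormalized hS hF hV hR hcR.le).2 Q
      (CfsgLib.FusionQuot.isConj_of_subsystem hMinv.1 hQ)⟩
  have hMc := isFullyCentralized_of_isFullyNormalized hVp hM.1.1 hMn
  set X' := R ⊔ centralizerIn V R with hX'
  obtain ⟨g, hg, hgx, -⟩ := exists_iso_sup hVp hM.1.1 hMc hMc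
    ((mem_autGroup_iff hcR.le).1 hcR.mem)
  have hX'V : X' ≤ V := sup_centralizerIn_le hcR.le
  have : Finite X' := finite_of_le hX'V
  obtain ⟨n, hn, hnag⟩ := exists_coprime_pow (le_sup_left : R ≤ X') hcR.coprime (g : MulAut X')
    fun x => Subtype.ext (hgx x)
  have hc' : Cond M p U X' ((g : MulAut X') ^ n) := by
    refine ⟨hX'V, hcR.inf_le.trans le_sup_left, pow_mem ((mem_autGroup_iff hX'V).2 hg) n, hn,
      fun x hx => ?_⟩
    have hxR : (x : Ω) ∈ R := hcR.inf_le ⟨hX'V x.2, hx⟩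
    refine (hnag ⟨x, hxR⟩).trans ?_
    rw [hcR.fix ⟨x, hxR⟩ hx]
    rfl
  have hTC : IsTC F V X' := isTC_of_isCentric hMinv (isCentric_sup hVp hM.1.1 hMc)
  obtain ⟨ψ, hψ, hag, hψU, hd⟩ := hasExt_of_fullyNormalized hS hF hMinv hU hc'
    fun R' β' hcR' hR' hact' hTC' => hasExt_core hS hF hM hU hcR' hR' hact' (hTC' hTC)
  have hle : R ⊔ U ≤ X' ⊔ U := sup_le_sup_right le_sup_left U
  exact ⟨_, restrict_mem hψ hle,
    fun x => (hag (Subgroup.inclusion le_sup_left x)).trans (congrArg Subtype.val (hnag x)),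
    fun u => hψU u, fun u => hd u⟩

end CfsgLib.Fusion.Comp
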