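import Cfsg.Agent.Lib.Fusion.Comp.Layer
import Cfsg.Agent.Lib.Fusion.TransportComp

/-!
# Normal subsystems of a factor of a central product are normal in the product
-/

set_option autoImplicit false
set_option linter.unusedSectionVars false

namespace CfsgLib.Fusion.Comp

open Cfsg Cfsg.FusionSystem CfsgLib.Fusion CfsgLib.FusionQuot CfsgLib.Fusion.Inter

variable {Ω : Type*} [Group Ω] {T T₁ T₂ U : Subgroup Ω} {E₁ : Cfsg.FusionSystem T₁}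
  {E₂ : Cfsg.FusionSystem T₂} {D : Cfsg.FusionSystem U} {p : ℕ}

/-- A central product, unfolded. -/
structure CP (E₁ : Cfsg.FusionSystem T₁) (E₂ : Cfsg.FusionSystem T₂) (D : Cfsg.FusionSystem U) where
  D₀ : Cfsg.FusionSystem (T₁.prod T₂)
  prod : IsProductSystem E₁ E₂ D₀
  Z : Subgroup (Ω × Ω)
  θ : ↥(T₁.prod T₂) →* Ω
  Zc : Z ≤ D₀.center
  left : ∀ (x : Ω) (hx : ((x, 1) : Ω × Ω) ∈ T₁.prod T₂), θ ⟨(x, 1), hx⟩ = x
  right : ∀ (y : Ω) (hy : ((1, y) : Ω × Ω) ∈ T₁.prod T₂), θ ⟨(1, y), hy⟩ = y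
  factor : D₀.IsFactorSystem Z θ D

theorem exists_cp (h : IsCentralProductOf E₁ E₂ D) : Nonempty (CP E₁ E₂ D) := by
  obtain ⟨D₀, hD₀, Z, θ, hZ, -, -, h1, h2, hfac⟩ := h
  exact ⟨⟨D₀, hD₀, Z, θ, hZ, h1, h2, hfac⟩⟩

namespace CP

variable (h : CP E₁ E₂ D)
include h

theorem theta_apply (s : ↥(T₁.prod T₂)) : h.θ s = (s : Ω × Ω).1 * (s : Ω × Ω).2 := by
  have h1 : ((s : Ω × Ω).1, (1 : Ω)) ∈ T₁.prod T₂ :=
    Subgroup.mem_prod.2 ⟨(Subgroup.mem_prod.1 s.2).1, one_mem _⟩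
  have h2 : ((1 : Ω), (s : Ω × Ω).2) ∈ T₁.prod T₂ :=
    Subgroup.mem_prod.2 ⟨one_mem _, (Subgroup.mem_prod.1 s.2).2⟩
  rw [show s = ⟨_, h1⟩ * ⟨_, h2⟩ from Subtype.ext (by simp), map_mul, h.left, h.right]
  simp

theorem comm {a b : Ω} (ha : a ∈ T₁) (hb : b ∈ T₂) : a * b = b * a := by
  have h1 : ((a, 1) : Ω × Ω) ∈ T₁.prod T₂ := Subgroup.mem_prod.2 ⟨ha, one_mem _⟩
  have h2 : ((1, b) : Ω × Ω) ∈ T₁.prod T₂ := Subgroup.mem_prod.2 ⟨one_mem _, hb⟩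
  have h3 : (⟨(a, 1), h1⟩ : ↥(T₁.prod T₂)) * ⟨(1, b), h2⟩ = ⟨(1, b), h2⟩ * ⟨(a, 1), h1⟩ :=
    Subtype.ext (by simp)
  have h4 := congrArg h.θ h3
  rwa [map_mul, map_mul, h.left, h.right] at h4

theorem le₁ : T₁ ≤ U := fun x hx => by
  rw [← h.factor.2.2.1]
  exact ⟨⟨(x, 1), Subgroup.mem_prod.2 ⟨hx, one_mem _⟩⟩, h.left x _⟩

theorem le₂ : T₂ ≤ U := fun y hy => by
  rw [← h.factor.2.2.1]
  exact ⟨⟨(1, y), Subgroup.mem_prod.2 ⟨one_mem _, hy⟩⟩, h.right y _⟩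

theorem exists_mul {x : Ω} (hx : x ∈ U) : ∃ a ∈ T₁, ∃ b ∈ T₂, x = a * b := by
  rw [← h.factor.2.2.1] at hx
  obtain ⟨s, rfl⟩ := hx
  exact ⟨_, (Subgroup.mem_prod.1 s.2).1, _, (Subgroup.mem_prod.1 s.2).2, h.theta_apply s⟩

/-- The product of maps of the factors is a map of the product. -/
theorem exists_map [Finite T₁] [Finite T₂] {Q₁ Q₂ P : Subgroup Ω} {φ₁ : Q₁ →* Ω} {φ₂ : Q₂ →* Ω}
    (hφ₁ : φ₁ ∈ E₁.Hom Q₁) (hφ₂ : φ₂ ∈ E₂.Hom Q₂)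
    (hP : ∀ x ∈ P, ∃ a ∈ Q₁, ∃ b ∈ Q₂, x = a * b) :
    ∃ χ ∈ D.Hom P, ∀ (x : P) (a : Q₁) (b : Q₂), (x : Ω) = a * b → χ x = φ₁ a * φ₂ b := by
  obtain ⟨hZS, hker, hrange, hfac⟩ := h.factor
  have hQ₁ : Q₁ ≤ T₁ := dom_le hφ₁
  have hQ₂ : Q₂ ≤ T₂ := dom_le hφ₂
  set W := Q₁.prod Q₂ with hW
  have hWS : W ≤ T₁.prod T₂ := Subgroup.prod_mono hQ₁ hQ₂
  let ψ : W →* Ω × Ω := MonoidHom.prod
    (φ₁.comp (((MonoidHom.fst Ω Ω).comp W.subtype).codRestrict Q₁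
      fun w => (Subgroup.mem_prod.1 w.2).1))
    (φ₂.comp (((MonoidHom.snd Ω Ω).comp W.subtype).codRestrict Q₂
      fun w => (Subgroup.mem_prod.1 w.2).2))
  have hψ : ψ ∈ h.D₀.Hom W := by
    have hle₁ : W.map (MonoidHom.fst Ω Ω) ≤ Q₁ := by
      rintro _ ⟨w, hw, rfl⟩
      exact (Subgroup.mem_prod.1 hw).1
    have hle₂ : W.map (MonoidHom.snd Ω Ω) ≤ Q₂ := by
      rintro _ ⟨w, hw, rfl⟩
      exact (Subgroup.mem_prod.1 hw).2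
    exact (h.prod W ψ).2 ⟨hWS, φ₁.comp (Subgroup.inclusion hle₁), restrict_mem hφ₁ hle₁,
      φ₂.comp (Subgroup.inclusion hle₂), restrict_mem hφ₂ hle₂, fun x h₁ h₂ => rfl⟩
  have : Finite ↥(T₁.prod T₂) := Finite.of_equiv _ (Subgroup.prodEquiv T₁ T₂).symm.toEquiv
  obtain ⟨χ₀, hχ₀, hag, hfix⟩ := (CfsgLib.FusionQuot.isCentral_center h.D₀).2 W ψ hψ
  have hdiv : ∀ (s : ↥(T₁.prod T₂)) (a : Q₁) (b : Q₂), h.θ s = (a : Ω) * b →
      ∃ hw : ((a : Ω), (b : Ω)) ∈ W, h.θ ((⟨_, hWS hw⟩ : ↥(T₁.prod T₂))⁻¹ * s) = 1 ∧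
        ((a : Ω), (b : Ω))⁻¹ * (s : Ω × Ω) ∈ h.D₀.center := by
    intro s a b hs
    have hw : ((a : Ω), (b : Ω)) ∈ W := Subgroup.mem_prod.2 ⟨a.2, b.2⟩
    have h1 : h.θ ((⟨_, hWS hw⟩ : ↥(T₁.prod T₂))⁻¹ * s) = 1 := by
      rw [map_mul, map_inv, hs, h.theta_apply, inv_mul_cancel]
    exact ⟨hw, h1, h.Zc ((hker _).1 h1)⟩
  have hPU : P ≤ U := fun x hx => by
    obtain ⟨a, ha, b, hb, rfl⟩ := hP x hx
    exact U.mul_mem (h.le₁ (hQ₁ ha)) (h.le₂ (hQ₂ hb))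
  have hpre : preimageAlong h.θ P ≤ W ⊔ h.D₀.center := by
    intro s hs
    obtain ⟨hsT, hsP⟩ := CfsgLib.FusionQuot.mem_preimageAlong.1 hs
    obtain ⟨a, ha, b, hb, hab⟩ := hP _ hsP
    obtain ⟨hw, -, h2⟩ := hdiv ⟨s, hsT⟩ ⟨a, ha⟩ ⟨b, hb⟩ hab
    have := mul_mem (Subgroup.mem_sup_left (T := h.D₀.center) hw) (Subgroup.mem_sup_right h2)
    rwa [mul_inv_cancel_left] at this
  have hσ : χ₀.comp (Subgroup.inclusion hpre) ∈ h.D₀.Hom (preimageAlong h.θ P) :=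
    restrict_mem hχ₀ hpre
  have hcenter : ∀ (x : ↥(W ⊔ h.D₀.center)), (x : Ω × Ω) ∈ h.D₀.center → χ₀ x = x :=
    fun x hx => apply_eq_self_of_center hχ₀ x hx
  have hval : ∀ (s : preimageAlong h.θ P) (a : Q₁) (b : Q₂),
      h.θ ⟨s, preimageAlong_le P s.2⟩ = (a : Ω) * b →
      h.θ ⟨χ₀ (Subgroup.inclusion hpre s), map_mem hσ s⟩ = φ₁ a * φ₂ b := by
    intro s a b hs
    obtain ⟨hw, h1, h2⟩ := hdiv ⟨s, preimageAlong_le P s.2⟩ a b hs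
    have hdec : (Subgroup.inclusion hpre s) = Subgroup.inclusion le_sup_left (⟨_, hw⟩ : W) *
        Subgroup.inclusion le_sup_right (⟨_, h2⟩ : h.D₀.center) :=
      Subtype.ext (mul_inv_cancel_left _ _).symm
    have hm : (φ₁ a, φ₂ b) ∈ T₁.prod T₂ := Subgroup.mem_prod.2 ⟨map_mem hφ₁ a, map_mem hφ₂ b⟩
    have hv : (⟨χ₀ (Subgroup.inclusion hpre s), map_mem hσ s⟩ : ↥(T₁.prod T₂)) =
        ⟨_, hm⟩ * ((⟨_, hWS hw⟩ : ↥(T₁.prod T₂))⁻¹ * ⟨s, preimageAlong_le P s.2⟩) := Subtype.ext (by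
      show χ₀ (Subgroup.inclusion hpre s) = _
      rw [hdec, map_mul, hag, hfix]
      rfl)
    rw [hv, map_mul, h1, mul_one, h.theta_apply]
  have hlift : ∀ x : P, ∃ s : preimageAlong h.θ P, h.θ ⟨s, preimageAlong_le P s.2⟩ = x := by
    intro x
    obtain ⟨s, hs⟩ := hrange.ge (hPU x.2)
    exact ⟨⟨s, CfsgLib.FusionQuot.mem_preimageAlong.2 ⟨s.2, hs.symm ▸ x.2⟩⟩, hs⟩
  have himg : imageAlong h.θ (preimageAlong h.θ P) = P :=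
    imageAlong_preimageAlong (by rw [hrange]; exact hPU)
  obtain ⟨χ, hχ⟩ : ∃ χ : P →* Ω, InducedAlong h.θ (χ₀.comp (Subgroup.inclusion hpre)) χ := by
    obtain ⟨χ', hχ'⟩ := exists_induced (φ := χ₀.comp (Subgroup.inclusion hpre))
      (preimageAlong_le P) (map_mem hσ) fun s hs => by
        have hsZ : (s : Ω × Ω) ∈ h.D₀.center := h.Zc ((hker _).1 hs)
        have h1 : (χ₀.comp (Subgroup.inclusion hpre)) s = s := hcenter _ hsZ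
        rw [show (⟨(χ₀.comp (Subgroup.inclusion hpre)) s, map_mem hσ s⟩ : ↥(T₁.prod T₂)) =
          ⟨s, preimageAlong_le P s.2⟩ from Subtype.ext h1]
        exact hs
    revert χ'
    rw [himg]
    exact fun χ' hχ' => ⟨χ', hχ'⟩
  refine ⟨χ, (hfac P χ).2 ⟨hPU, _, hσ, hχ⟩, fun x a b hab => ?_⟩
  obtain ⟨s, hs⟩ := hlift x
  have h1 := hval s a b (hs.trans hab)
  have h2 := induced_apply hχ s (preimageAlong_le P s.2) (by rw [hs]; exact x.2) (map_mem hσ s)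
  rw [show (⟨h.θ ⟨s, preimageAlong_le P s.2⟩, _⟩ : P) = x from Subtype.ext hs] at h2
  exact h2.trans h1

theorem mem_of_right [Finite T₁] [Finite T₂] {P : Subgroup Ω} {φ : P →* Ω} (hφ : φ ∈ E₂.Hom P) :
    φ ∈ D.Hom P := by
  obtain ⟨χ, hχ, hχx⟩ := h.exists_map (subtype_mem E₁ (bot_le : ⊥ ≤ T₁)) hφ (P := P)
    fun x hx => ⟨1, one_mem _, x, hx, (one_mul x).symm⟩
  rwa [show φ = χ from MonoidHom.ext fun x => by
    rw [hχx x 1 x (one_mul (x : Ω)).symm, map_one, one_mul]]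

theorem right_of_mem {R : Subgroup Ω} (hR : R ≤ T₂) {φ : R →* Ω} (hφ : φ ∈ D.Hom R) :
    φ ∈ E₂.Hom R := by
  obtain ⟨-, σ, hσ, hind⟩ := (h.factor.2.2.2 R φ).1 hφ
  obtain ⟨hpre, φ₁, hφ₁, φ₂, hφ₂, hv⟩ := (h.prod _ σ).1 hσ
  have hm : ∀ r : R, ((1 : Ω), (r : Ω)) ∈ preimageAlong h.θ R := fun r =>
    CfsgLib.FusionQuot.mem_preimageAlong.2 ⟨Subgroup.mem_prod.2 ⟨one_mem _, hR r.2⟩,
      by rw [h.right]; exact r.2⟩
  have hle : R ≤ (preimageAlong h.θ R).map (MonoidHom.snd Ω Ω) := fun r hr =>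
    ⟨((1 : Ω), r), hm ⟨r, hr⟩, rfl⟩
  refine mem_of_restrict hφ₂ hle φ fun r => ?_
  have h1 := hv ⟨_, hm r⟩ ⟨_, hm r, rfl⟩ ⟨_, hm r, rfl⟩
  have h2 := induced_apply hind ⟨_, hm r⟩ (hpre (hm r)) (by rw [h.right]; exact r.2)
    (map_mem hσ _)
  rw [show (⟨h.θ ⟨((1 : Ω), (r : Ω)), hpre (hm r)⟩, _⟩ : R) = r from
    Subtype.ext (h.right _ _)] at h2
  rw [h2, h.theta_apply]
  show (σ ⟨_, hm r⟩).1 * (σ ⟨_, hm r⟩).2 = _
  rw [h1]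
  show φ₁ ⟨1, _⟩ * φ₂ ⟨(r : Ω), _⟩ = _
  rw [show (⟨(1 : Ω), _⟩ : ↥((preimageAlong h.θ R).map (MonoidHom.fst Ω Ω))) = 1 from rfl,
    map_one, one_mul]

/-- A normal subsystem of the second factor is normal in the product. -/
theorem isNormalIn_of_right [Finite T₁] [Finite T₂] (hD : D.IsSaturated p)
    {C : Cfsg.FusionSystem T} (hC : C.IsNormalIn E₂ p) : C.IsNormalIn D p := by
  obtain ⟨⟨hCs, -, hsub, hsc, hinv, hfrat⟩, hext⟩ := hC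
  have hT : T ≤ T₂ := hsc.1
  have haut : ∀ a ∈ D.autGroup T, a ∈ E₂.autGroup T := fun a ha =>
    (mem_autGroup_iff_hom hT).2 (h.right_of_mem hT ((mem_autGroup_iff_hom (hT.trans h.le₂)).1 ha))
  refine ⟨⟨hCs, hD, fun P φ hφ => h.mem_of_right (hsub P hφ),
    ⟨hT.trans h.le₂, fun R hR φ hφ => hsc.2 R hR φ (h.right_of_mem (hR.trans hT) hφ)⟩,
    fun P hP φ hφ α hα => hinv P hP φ hφ α (haut α hα), fun P hP φ hφ => ?_⟩, fun a ha => ?_⟩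
  · obtain ⟨α, hα, φ₀, hφ₀, hx⟩ := hfrat P hP φ (h.right_of_mem (hP.trans hT) hφ)
    exact ⟨α, (mem_autGroup_iff_hom (hT.trans h.le₂)).2
      (h.mem_of_right ((mem_autGroup_iff_hom hT).1 hα)), φ₀, hφ₀, hx⟩
  set W₂ := T ⊔ centralizerIn T₂ T with hW₂
  have hW₂T : W₂ ≤ T₂ := sup_le hT (centralizerIn_le _ _)
  set W := T ⊔ centralizerIn U T with hW
  obtain ⟨β, hβ, hβT, hβd⟩ := hext a ha
  have hWU : W ≤ U := sup_le (hT.trans h.le₂) (centralizerIn_le _ _)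
  have hW₂W : W₂ ≤ W := sup_le_sup_left (inf_le_inf_right _ h.le₂) T
  have hT₁n : T₁ ≤ Subgroup.normalizer (W₂ : Set Ω) := fun a ha => by
    refine Subgroup.mem_normalizer_iff.2 fun n => ⟨fun hn => ?_, fun hn => ?_⟩
    · rwa [h.comm ha (hW₂T hn), mul_inv_cancel_right]
    · have h1 := h.comm ha (hW₂T hn)
      have h2 : n = a * n * a⁻¹ := by
        have h3 := mul_left_cancel (h1.trans (show a * n * a⁻¹ * a = a * n by group))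
        exact h3.symm
      rwa [h2]
  have hdec : ∀ c ∈ centralizerIn U T, ∃ a₁ ∈ T₁, ∃ b ∈ centralizerIn T₂ T, c = a₁ * b := by
    intro c hc
    obtain ⟨a₁, ha₁, b, hb, rfl⟩ := h.exists_mul hc.1
    refine ⟨a₁, ha₁, b, ⟨hb, Subgroup.mem_centralizer_iff.2 fun y hy => ?_⟩, rfl⟩
    have h1 := Subgroup.mem_centralizer_iff.1 hc.2 y hy
    rw [← mul_assoc, ← h.comm ha₁ (hT hy), mul_assoc, mul_assoc] at h1
    exact mul_left_cancel h1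
  have hWsup : ∀ x ∈ W, ∃ a₁ ∈ T₁, ∃ b ∈ W₂, x = a₁ * b := by
    intro x hx
    have hle : W ≤ T₁ ⊔ W₂ := sup_le (le_sup_of_le_right le_sup_left) fun c hc => by
      obtain ⟨a₁, ha₁, b, hb, rfl⟩ := hdec c hc
      exact mul_mem (Subgroup.mem_sup_left ha₁) (Subgroup.mem_sup_right (Subgroup.mem_sup_right hb))
    have h1 : x ∈ ((T₁ ⊔ W₂ : Subgroup Ω) : Set Ω) := hle hx
    rw [Subgroup.coe_mul_of_left_le_normalizer_right T₁ W₂ hT₁n] at h1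
    obtain ⟨a₁, ha₁, b, hb, hab⟩ := h1
    exact ⟨a₁, ha₁, b, hb, hab.symm⟩
  obtain ⟨χ, hχ, hχx⟩ := h.exists_map (subtype_mem E₁ le_rfl)
    ((mem_autGroup_iff_hom hW₂T).1 hβ) hWsup
  have hmaps : ∀ x, χ x ∈ W := by
    intro x
    obtain ⟨a₁, ha₁, b, hb, hab⟩ := hWsup x x.2
    rw [hχx x ⟨a₁, ha₁⟩ ⟨b, hb⟩ hab]
    refine W.mul_mem ?_ (hW₂W (β ⟨b, hb⟩).2)
    have := W.mul_mem x.2 (W.inv_mem (hW₂W hb))
    rwa [hab, mul_inv_cancel_right] at this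
  have : Finite U := by
    rw [← h.factor.2.2.1]
    have : Finite ↥(T₁.prod T₂) := Finite.of_equiv _ (Subgroup.prodEquiv T₁ T₂).symm.toEquiv
    exact Finite.of_surjective h.θ.rangeRestrict h.θ.rangeRestrict_surjective
  obtain ⟨β', hβ', hβ'x⟩ := LayerCore.exists_aut_of_mapsTo hχ hmaps
  refine ⟨β', hβ', fun x => ?_, fun c hc => ?_⟩
  · rw [hβ'x, hχx _ 1 (Subgroup.inclusion le_sup_left x) (by simp)]
    rw [map_one, one_mul]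
    exact hβT x
  · obtain ⟨a₁, ha₁, b, hb, hab⟩ := hdec c hc
    have hbW : b ∈ W₂ := Subgroup.mem_sup_right hb
    rw [hβ'x, hχx c ⟨a₁, ha₁⟩ ⟨b, hbW⟩ hab, hab]
    show (a₁ * b)⁻¹ * (a₁ * ((β ⟨b, hbW⟩ : W₂) : Ω)) ∈ _
    rw [mul_inv_rev, mul_assoc, inv_mul_cancel_left]
    exact hβd ⟨b, hbW⟩ hb

end CP

/-- A normal subsystem of the second factor is normal in the product. -/
theorem isNormalIn_centralProduct [Finite T₁] [Finite T₂] (h : IsCentralProductOf E₁ E₂ D)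
    (hD : D.IsSaturated p) {C : Cfsg.FusionSystem T} (hC : C.IsNormalIn E₂ p) :
    C.IsNormalIn D p := by
  obtain ⟨h⟩ := exists_cp h
  exact h.isNormalIn_of_right hD hC

/-- Central products are symmetric. -/
theorem centralProduct_symm (h : IsCentralProductOf E₁ E₂ D) : IsCentralProductOf E₂ E₁ D := by
  obtain ⟨D₀, hD₀, Z, θ, hZ, hZ₁, hZ₂, hl, hr, hfac⟩ := h
  let sw : Ω × Ω →* Ω × Ω := (MulEquiv.prodComm (M := Ω) (N := Ω)).toMonoidHom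
  have hswi : Function.Injective sw := (MulEquiv.prodComm (M := Ω) (N := Ω)).injective
  have hsw : ∀ x : Ω × Ω, sw x = (x.2, x.1) := fun x => rfl
  have hmap : ∀ A B : Subgroup Ω, (A.prod B).map sw = B.prod A := fun A B => by
    ext ⟨a, b⟩
    simp only [Subgroup.mem_map, Subgroup.mem_prod]
    constructor
    · rintro ⟨⟨x, y⟩, ⟨hx, hy⟩, he⟩
      rw [hsw, Prod.mk.injEq] at he
      obtain ⟨rfl, rfl⟩ := he
      exact ⟨hy, hx⟩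
    · rintro ⟨ha, hb⟩
      exact ⟨(b, a), ⟨hb, ha⟩, rfl⟩
  have hp := Transport.isPush_pullSys D₀ hswi (hmap T₂ T₁)
  set D₀' := Transport.pullSys D₀ sw hswi (hmap T₂ T₁)
  have hfst : ∀ P : Subgroup (Ω × Ω), (P.map sw).map (MonoidHom.fst Ω Ω) =
      P.map (MonoidHom.snd Ω Ω) := fun P => by rw [Subgroup.map_map]; rfl
  have hsnd : ∀ P : Subgroup (Ω × Ω), (P.map sw).map (MonoidHom.snd Ω Ω) =
      P.map (MonoidHom.fst Ω Ω) := fun P => by rw [Subgroup.map_map]; rfl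
  have hprod : IsProductSystem E₂ E₁ D₀' := by
    intro P φ
    obtain ⟨φ', hr'⟩ := Transport.exists_rel_right hswi φ
    rw [hp.iff hr', hD₀]
    constructor
    · rintro ⟨hle, φ₁, hφ₁, φ₂, hφ₂, hv⟩
      refine ⟨(Transport.map_le_map hswi).1 (hle.trans (hmap T₂ T₁).ge),
        φ₂.comp (Subgroup.inclusion (hsnd P).ge), restrict_mem hφ₂ _,
        φ₁.comp (Subgroup.inclusion (hfst P).ge), restrict_mem hφ₁ _, fun x h₁ h₂ => hswi ?_⟩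
      rw [← hr'.2 x ⟨x, x.2, rfl⟩, hv _ ((hfst P).ge h₂) ((hsnd P).ge h₁)]
      rfl
    · rintro ⟨hle, φ₁, hφ₁, φ₂, hφ₂, hv⟩
      refine ⟨(Subgroup.map_mono hle).trans (hmap T₂ T₁).le,
        φ₂.comp (Subgroup.inclusion (hfst P).le), restrict_mem hφ₂ _,
        φ₁.comp (Subgroup.inclusion (hsnd P).le), restrict_mem hφ₁ _, ?_⟩
      rintro ⟨_, x, hx, rfl⟩ h₁ h₂
      rw [hr'.2 ⟨x, hx⟩ ⟨x, hx, rfl⟩, hv ⟨x, hx⟩ ((hsnd P).le h₂) ((hfst P).le h₁)]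
      rfl
  have hθm : ∀ s : ↥(T₂.prod T₁), sw s ∈ T₁.prod T₂ := fun s => (hmap T₂ T₁).le ⟨s, s.2, rfl⟩
  let θ' : ↥(T₂.prod T₁) →* Ω := θ.comp ((sw.comp (T₂.prod T₁).subtype).codRestrict _ hθm)
  have hid : Transport.IsPush (MonoidHom.id Ω) D D :=
    ⟨Subgroup.map_id U, fun _ _ e => e, fun {P φ P' φ'} hr => by
      obtain rfl : P = P' := (Subgroup.map_id P).symm.trans hr.1
      rw [show φ' = φ from MonoidHom.ext fun x => hr.2 x x.2]⟩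
  have hZ₀ : (Z.comap sw).map sw = Z := Subgroup.map_comap_eq_self_of_surjective
    (MulEquiv.prodComm (M := Ω) (N := Ω)).surjective Z
  refine ⟨D₀', hprod, Z.comap sw, θ', ?_, ?_, ?_, fun x hx => ?_, fun y hy => ?_, ?_⟩
  · intro x hx
    have h1 : sw x ∈ D₀'.center.map sw := hp.map_center ▸ hZ hx
    exact (Transport.mem_map_inj hswi).1 h1
  · refine le_bot_iff.1 fun x hx => ?_
    have h1 : sw x ∈ Z ⊓ (⊥ : Subgroup Ω).prod T₂ :=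
      ⟨hx.1, (hmap T₂ ⊥).le ⟨x, hx.2, rfl⟩⟩
    rw [hZ₂, Subgroup.mem_bot] at h1
    exact Subgroup.mem_bot.2 (hswi (h1.trans (map_one sw).symm))
  · refine le_bot_iff.1 fun x hx => ?_
    have h1 : sw x ∈ Z ⊓ T₁.prod ⊥ := ⟨hx.1, (hmap ⊥ T₁).le ⟨x, hx.2, rfl⟩⟩
    rw [hZ₁, Subgroup.mem_bot] at h1
    exact Subgroup.mem_bot.2 (hswi (h1.trans (map_one sw).symm))
  · exact hr x _
  · exact hl y _
  · refine (hp.isFactorSystem_iff (g := MonoidHom.id Ω) Function.bijective_id (θ := θ') (θ' := θ)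
      (fun x hx => rfl) hid).2 ?_
    rwa [hZ₀]

end CfsgLib.Fusion.Comp
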