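import Cfsg.Agent.Lib.Fusion.Comp.Commute
import Cfsg.Agent.Lib.Fusion.Comp.Factor
import Cfsg.Agent.S5148
import Cfsg.Agent.Lib.Fusion.ConjugateSubnormal

/-!
# Components are normal in the layer
-/

set_option autoImplicit false
set_option linter.unusedSectionVars false

namespace CfsgLib.Fusion.Comp

open Cfsg Cfsg.FusionSystem CfsgLib.Fusion CfsgLib.FusionQuot CfsgLib.Fusion.Inter

variable {Ω : Type*} [Group Ω] {S T U U' V W : Subgroup Ω} {F : Cfsg.FusionSystem S} {p : ℕ}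

theorem eq_of_mutual {E : Cfsg.FusionSystem U} {E' : Cfsg.FusionSystem U'}
    (h : E.IsSubsystemOf E') (h' : E'.IsSubsystemOf E) : U = U' ∧ ∀ P, E.Hom P = E'.Hom P :=
  ⟨le_antisymm (dom_le (h U (subtype_mem E le_rfl))) (dom_le (h' U' (subtype_mem E' le_rfl))),
    fun P => Set.Subset.antisymm (h P) (h' P)⟩

theorem isNormalIn_of_mutual {E : Cfsg.FusionSystem U} {E' : Cfsg.FusionSystem U'}
    {B : Cfsg.FusionSystem W} (h : E.IsSubsystemOf E') (h' : E'.IsSubsystemOf E)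
    (hn : E'.IsNormalIn B p) : E.IsNormalIn B p := by
  obtain ⟨rfl, heq⟩ := eq_of_mutual h h'
  rwa [sys_ext heq]

/-- The layer of a normal subsystem is invariant under its automorphisms from the whole system. -/
theorem layer_transport [Finite S] [Fact p.Prime] (hS : IsPGroup p S)
    {M : Cfsg.FusionSystem V} (hM : M.IsNormalIn F p) {L : Cfsg.FusionSystem U}
    (hL : L.IsLayerOf M p) {α : MulAut V} (hα : α ∈ F.autGroup V) {P : Subgroup Ω}
    {φ : P →* Ω} (hφ : φ ∈ L.Hom P) :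
    ∃ χ ∈ L.Hom ((P.subgroupOf V).map (V.subtype.comp α.toMonoidHom)),
      ∀ (x : P) (hx : (x : Ω) ∈ V) (hφx : φ x ∈ V)
        (hαx : ((α ⟨x, hx⟩ : V) : Ω) ∈ (P.subgroupOf V).map (V.subtype.comp α.toMonoidHom)),
        χ ⟨_, hαx⟩ = ((α ⟨φ x, hφx⟩ : V) : Ω) := by
  classical
  have hV : V ≤ S := hM.1.2.2.2.1.1
  have : Finite V := finite_of_le hV
  have hVp : IsPGroup p V := hS.to_le hV
  have hVtop : IsPGroup p (⊤ : Subgroup V) := hVp.to_subgroup _
  have hUV : U ≤ V := hL.1.1.2.2.2.1.1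
  have hp := Transport.isPush_self M
  have hmap : (U.comap V.subtype).map V.subtype = U :=
    Transport.map_comap_of_le hp.map_eq hUV
  have hq := Transport.isPush_pullSys L V.subtype_injective hmap
  set L₀ := Transport.pullSys L V.subtype V.subtype_injective hmap
  have : Finite (U.comap V.subtype) := Finite.of_injective _ Subtype.val_injective
  have hL₀ : L₀.IsLayerOf (Transport.self M) p :=
    (hp.isLayerOf_iff hq hVtop (hVp.to_subgroup _)).2 hL
  have hpa := Transport.isPush_self_aut hM.1.2.2 hα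
  have hp4 := Transport.isPush_pushSys L₀ (f := α.toMonoidHom) α.injective
  set L₁ := Transport.pushSys L₀ α.toMonoidHom α.injective
  have hL₁ : L₁.IsLayerOf (Transport.self M) p :=
    (hpa.isLayerOf_iff hp4 hVtop (hVp.to_subgroup _)).1 hL₀
  have hsub : L₁.IsSubsystemOf L₀ := hL₁.2.2 _ L₀ hL₀.1 hL₀.2.1
  obtain ⟨φ₀, hφ₀, hr₀⟩ := hq.exists_left hφ
  obtain ⟨φ₁, hφ₁, hr₁⟩ := hp4.exists_right hφ₀
  obtain ⟨χ, hχ, hr₂⟩ := hq.exists_right (hsub _ hφ₁)
  have he : ((P.comap V.subtype).map α.toMonoidHom).map V.subtype =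
      (P.subgroupOf V).map (V.subtype.comp α.toMonoidHom) := by
    rw [Subgroup.map_map]; rfl
  refine ⟨χ.comp (Subgroup.inclusion he.ge), restrict_mem hχ he.ge, fun x hx hφx hαx => ?_⟩
  have hxm : (⟨x, hx⟩ : V) ∈ P.comap V.subtype := x.2
  have hαm : α ⟨x, hx⟩ ∈ (P.comap V.subtype).map α.toMonoidHom := ⟨_, hxm, rfl⟩
  refine (hr₂.2 ⟨_, hαm⟩ (he.ge hαx)).trans ?_
  rw [show φ₁ ⟨α ⟨x, hx⟩, hαm⟩ = α (φ₀ ⟨_, hxm⟩) from hr₁.2 ⟨_, hxm⟩ hαm]
  exact congrArg (fun v : V => ((α v : V) : Ω)) (Subtype.ext (hr₀.2 ⟨_, hxm⟩ x.2).symm)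

/-- The layer of a normal subsystem is normal. -/
theorem layer_isNormalIn [Finite S] [Fact p.Prime] (hS : IsPGroup p S)
    {M : Cfsg.FusionSystem V} (hM : M.IsNormalIn F p) {L : Cfsg.FusionSystem U}
    (hL : L.IsLayerOf M p) : L.IsNormalIn F p := by
  classical
  obtain ⟨⟨-, hFs, hMsub, hVsc, hMinv, hMfrat⟩, -⟩ := id hM
  have hVS := hVsc.1
  have : Finite V := finite_of_le hVS
  have hVp : IsPGroup p V := hS.to_le hVS
  obtain ⟨⟨hLs, hMs, hLsub, hUsc, hLinv, hLfrat⟩, -⟩ := id hL.1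
  have hUV := hUsc.1
  have hUS : U ≤ S := hUV.trans hVS
  have : Finite U := finite_of_le hUS
  have hpres : ∀ α ∈ F.autGroup V, ∀ u : V, (u : Ω) ∈ U → ((α u : V) : Ω) ∈ U := by
    intro α hα u hu
    obtain ⟨χ, hχ, -⟩ := layer_transport hS hM hL hα (subtype_mem L le_rfl)
    exact dom_le hχ ⟨u, hu, rfl⟩
  have hFactor : ∀ (P : Subgroup Ω), P ≤ U → ∀ φ ∈ F.Hom P, ∃ α ∈ F.autGroup V, ∃ φ₀ ∈ M.Hom P,
      ∃ hU : ∀ x, φ₀ x ∈ U, ∀ x : P, φ x = ((α ⟨φ₀ x, hUV (hU x)⟩ : V) : Ω) := by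
    intro P hP φ hφ
    obtain ⟨α, hα, φ₀, hφ₀, hx⟩ := hMfrat P (hP.trans hUV) φ hφ
    exact ⟨α, hα, φ₀, hφ₀, fun x => hUsc.2 P hP φ₀ hφ₀ x, fun x => hx x _⟩
  have hscF : F.StronglyClosed U := by
    refine ⟨hUS, fun P hP φ hφ x => ?_⟩
    obtain ⟨α, hα, φ₀, -, hU, hx⟩ := hFactor P hP φ hφ
    rw [hx]
    exact hpres α hα _ (hU x)
  have hres : ∀ α ∈ F.autGroup V, ∃ ε ∈ F.autGroup U, ∀ u : U,
      ((ε u : U) : Ω) = ((α ⟨u, hUV u.2⟩ : V) : Ω) := fun α hα =>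
    LayerCore.exists_aut_of_mapsTo (restrict_mem ((mem_autGroup_iff_hom hVS).1 hα) hUV)
      fun u => hpres α hα ⟨u, hUV u.2⟩ u.2
  have hweak : L.IsWeaklyNormalIn F p := by
    refine ⟨hLs, hFs, fun P => (hLsub P).trans (hMsub P), hscF, fun P hP φ hφ γ hγ => ?_,
      fun P hP φ hφ => ?_⟩
    · obtain ⟨α, hα, γ₀, hγ₀, hU, hx⟩ := hFactor U le_rfl _ ((mem_autGroup_iff_hom hUS).1 hγ)
      obtain ⟨γ₀', hγ₀', hγ₀x⟩ := LayerCore.exists_aut_of_mapsTo (S := V) (F := M) hγ₀ hU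
      obtain ⟨χ₀, hχ₀, hχ₀x⟩ := hLinv P hP φ hφ γ₀' hγ₀'
      obtain ⟨χ, hχ, hχx⟩ := layer_transport hS hM hL hα hχ₀
      have hval : ∀ u : U, ((γ u : U) : Ω) = ((α ⟨(γ₀' u : Ω), hUV (γ₀' u).2⟩ : V) : Ω) := fun u =>
        (hx u).trans (congrArg (fun v : V => ((α v : V) : Ω)) (Subtype.ext (hγ₀x u).symm))
      have hle : (P.subgroupOf U).map (U.subtype.comp γ.toMonoidHom) ≤
          (((P.subgroupOf U).map (U.subtype.comp γ₀'.toMonoidHom)).subgroupOf V).map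
            (V.subtype.comp α.toMonoidHom) := by
        rintro _ ⟨u, hu, rfl⟩
        exact ⟨⟨(γ₀' u : Ω), hUV (γ₀' u).2⟩, ⟨u, hu, rfl⟩, (hval u).symm⟩
      refine ⟨_, restrict_mem hχ hle, fun x hφx hγx => ?_⟩
      have hm : ((γ₀' ⟨x, hP x.2⟩ : U) : Ω) ∈ (P.subgroupOf U).map (U.subtype.comp γ₀'.toMonoidHom) :=
        ⟨⟨x, hP x.2⟩, x.2, rfl⟩
      have hv : ((γ ⟨x, hP x.2⟩ : U) : Ω) =
          ((α ⟨(γ₀' ⟨x, hP x.2⟩ : Ω), hUV (γ₀' _).2⟩ : V) : Ω) := hval _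
      show χ ⟨_, _⟩ = _
      have hmem : ((α ⟨(γ₀' ⟨x, hP x.2⟩ : Ω), hUV (γ₀' _).2⟩ : V) : Ω) ∈
          (((P.subgroupOf U).map (U.subtype.comp γ₀'.toMonoidHom)).subgroupOf V).map
            (V.subtype.comp α.toMonoidHom) :=
        Eq.subst (motive := fun z => z ∈ _) hv (hle hγx)
      refine Eq.trans (congrArg χ (Subtype.ext hv : _ = (⟨_, hmem⟩ :
        ↥((((P.subgroupOf U).map (U.subtype.comp γ₀'.toMonoidHom)).subgroupOf V).map
          (V.subtype.comp α.toMonoidHom))))) ?_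
      have h1 := hχ₀x x hφx hm
      refine (hχx ⟨_, hm⟩ (hUV (γ₀' _).2) (by rw [h1]; exact hUV (γ₀' _).2) _).trans ?_
      rw [hval]
      exact congrArg (fun v : V => ((α v : V) : Ω)) (Subtype.ext h1)
    · obtain ⟨α, hα, φ₀, hφ₀, hU, hx⟩ := hFactor P hP φ hφ
      obtain ⟨b, hb, φ₁, hφ₁, hx₁⟩ := hLfrat P hP φ₀ hφ₀
      obtain ⟨ε, hε, hεx⟩ := hres α hα
      refine ⟨ε * b, mul_mem hε (autGroup_le_of_subsystem hMsub U hb), φ₁, hφ₁, fun x hx' => ?_⟩
      rw [hx, MulAut.mul_apply, hεx]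
      exact congrArg (fun v : V => ((α v : V) : Ω)) (Subtype.ext (hx₁ x hx'))
  set R := CfsgLib.Fusion.pPrimeResidualSystem L p
  have hRF : R.IsNormalIn F p := CfsgLib.FusionWeakNormal.residual_isNormalIn hS hweak
  have hRM : R.IsNormalIn M p := CfsgLib.FusionWeakNormal.residual_isNormalIn hVp hL.1.1
  have hLR : L.IsSubsystemOf R := hL.2.2 U R hRM fun U' C hC => Components.subnormal_sub
    (isComponentIn_of_le hVp hMs hC hRM (dom_le (hL.2.1 U' C hC U' (subtype_mem C le_rfl)))).1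
  exact isNormalIn_of_mutual hLR (fun P φ hφ => hφ.1) hRF

/-- A component is the whole system or lies in a smaller normal subsystem. -/
theorem exists_last {C : Cfsg.FusionSystem T} (hC : C.IsSubnormalIn F p) :
    Finite S → (T = S ∧ ∀ P, C.Hom P = F.Hom P) ∨ ∃ (V : Subgroup Ω) (M : Cfsg.FusionSystem V),
      M.IsNormalIn F p ∧ C.IsSubnormalIn M p ∧
      CfsgLib.FusionControl.size M < CfsgLib.FusionControl.size F := by
  induction hC with
  | refl C₀ q => exact fun _ => Or.inl ⟨rfl, fun _ => rfl⟩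
  | @step U₀ S₀ C₀ M F₀ q hCM hM ih =>
    intro hfin
    by_cases hall : ∀ P, F₀.Hom P ⊆ M.Hom P
    · obtain ⟨rfl, heq⟩ := eq_of_mutual (E := M) (E' := F₀) hM.1.2.2.1 hall
      obtain rfl := sys_ext heq
      exact ih hfin
    · simp only [not_forall] at hall
      obtain ⟨P, hP⟩ := hall
      obtain ⟨φ, hφ, hφM⟩ := Set.not_subset.1 hP
      exact Or.inr ⟨_, M, hM, hCM, CfsgLib.FusionControl.size_lt hM.1.2.2.1 hφ hφM⟩

/-- Every component is normal in the layer. -/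
theorem component_isNormalIn_layer [Fact p.Prime] :
    ∀ (n : ℕ) {S T U : Subgroup Ω} (F : Cfsg.FusionSystem S) (C : Cfsg.FusionSystem T)
      (E : Cfsg.FusionSystem U), CfsgLib.FusionControl.size F = n → Finite S → IsPGroup p S →
      F.IsSaturated p → C.IsComponentIn F p → E.IsLayerOf F p → C.IsNormalIn E p := by
  intro n
  induction n using Nat.strong_induction_on with
  | _ n ih =>
  intro S T U F C E hn hfin hS hF hC hE
  rcases exists_last hC.1 hfin with ⟨rfl, heq⟩ | ⟨V, M, hM, hCM, hsize⟩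
  · obtain rfl := sys_ext heq
    exact isNormalIn_of_mutual (fun P => Set.Subset.refl _) (fun P => Set.Subset.refl _)
      (show C.IsNormalIn E p from by
        obtain ⟨rfl, hh⟩ := eq_of_mutual (hE.2.1 _ C hC) hE.1.1.2.2.1
        obtain rfl := sys_ext hh
        exact self_isNormalIn hF)
  have hVsc : F.StronglyClosed V := hM.1.2.2.2.1
  have : Finite V := finite_of_le hVsc.1
  have hVp : IsPGroup p V := hS.to_le hVsc.1
  obtain ⟨U₁, L, hL⟩ := exists_layer hVp hM.1.1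
  have hCL : C.IsNormalIn L p :=
    ih _ (hn ▸ hsize) M C L rfl inferInstance hVp hM.1.1 ⟨hCM, hC.2⟩ hL
  have hLF : L.IsNormalIn F p := layer_isNormalIn hS hM hL
  have : Finite U₁ := finite_of_le hLF.1.2.2.2.1.1
  obtain ⟨A, hA, hAT⟩ := CenNormal.exists_centralizer_normal hS hF hLF
  have : Finite (CenSub.fixSub L F) := finite_of_le hA.1.2.2.2.1.1
  have hfixed := CenSub.isFixed_fixSub hS hF hLF
  obtain ⟨B, hB, hcp⟩ := CommProd.exists_product hS hF hA hLF fun a ha b hb =>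
    (CenSub.commute_of_le_centralizerIn CenSub.fixSub_le hb ha).symm
  have hcp' : IsCentralProductOf A L B := by
    refine hcp (le_center _ (CommProd.isCentral_of_fixes hS hA inf_le_left fun P φ hφ x hx => ?_))
      (le_center _ (CommProd.isCentral_of_fixes hS hLF inf_le_right fun P φ hφ x hx => ?_))
    · obtain ⟨-, -, -, ψ, -, hag, hfx⟩ := hAT P hφ
      rw [← hag x, show Subgroup.inclusion (le_sup_left : P ≤ P ⊔ U₁) x =
        Subgroup.inclusion le_sup_right (⟨(x : Ω), hx.2⟩ : U₁) from rfl, hfx]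
    · obtain ⟨ψ, -, hag, hfx⟩ := hfixed.2 P φ hφ
      rw [← hag x, show Subgroup.inclusion (le_sup_left : P ≤ P ⊔ CenSub.fixSub L F) x =
        Subgroup.inclusion le_sup_right (⟨(x : Ω), hx.1⟩ : CenSub.fixSub L F) from rfl, hfx]
  have hBsc : F.StronglyClosed (CenSub.fixSub L F ⊔ U₁) := hB.1.2.2.2.1
  have : Finite ↥(CenSub.fixSub L F ⊔ U₁) := finite_of_le hBsc.1
  have hBp : IsPGroup p ↥(CenSub.fixSub L F ⊔ U₁) := hS.to_le hBsc.1
  have hCB : C.IsNormalIn B p := isNormalIn_centralProduct hcp' hB.1.1 hCL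
  obtain ⟨G, ⟨hGF, hGE, hGB⟩, -⟩ := exists_inter hS hF hE.1 hB
  have hGcomp : ∀ (U' : Subgroup Ω) (C' : Cfsg.FusionSystem U'), C'.IsComponentIn F p →
      C'.IsSubsystemOf G := fun U' C' hC' => by
    refine Components.subnormal_sub (isComponentIn_of_le hS hF hC' hGF (le_inf
      (dom_le (hE.2.1 U' C' hC' U' (subtype_mem C' le_rfl))) ?_)).1
    rcases le_or_le_fixSub hS hF hC' hLF with h | ⟨h, -⟩
    · exact h.trans le_sup_right
    · exact h.trans le_sup_left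
  have hEB : E.IsNormalIn B p :=
    isNormalIn_of_mutual (hE.2.2 _ G hGF hGcomp) hGE.1.2.2.1 hGB
  obtain ⟨G', ⟨-, hG'C, hG'E⟩, -⟩ := exists_inter hBp hB.1.1 hCB hEB
  have hTU : T ≤ U := dom_le (hE.2.1 T C hC T (subtype_mem C le_rfl))
  have : Finite T := finite_of_le hCB.1.2.2.2.1.1 
  have hTp : IsPGroup p T := hBp.to_le hCB.1.2.2.2.1.1
  have key : ∀ (T' : Subgroup Ω) (G' : Cfsg.FusionSystem T'), T' = T → G'.IsWeaklyNormalIn C p →
      G'.IsNormalIn E p → C.IsNormalIn E p := by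
    rintro _ G' rfl hw hn'
    rwa [← eq_of_quasisimple hTp hC.2 hw]
  exact key _ G' (inf_eq_left.2 hTU) hG'C.1 hG'E

/-- A component is normal in every generalized Fitting subsystem. -/
theorem component_isNormalIn_fitting [Finite S] [Fact p.Prime] (hS : IsPGroup p S)
    (hF : F.IsSaturated p) {C : Cfsg.FusionSystem T} (hC : C.IsComponentIn F p)
    {D : Cfsg.FusionSystem U} (hD : D.IsGeneralizedFittingOf F p) : C.IsNormalIn D p := by
  have hDF := (fitting_exists_and_normal hS hF).2 U D hD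
  obtain ⟨T', E, hE, hcp⟩ := hD
  have : Finite F.core := finite_of_le (CfsgLib.FusionQuot.core_le F)
  have : Finite T' := finite_of_le hE.1.1.2.2.2.1.1
  exact isNormalIn_centralProduct hcp hDF.1.1
    (component_isNormalIn_layer _ F C E rfl inferInstance hS hF hC hE)

/-- A component of a central product is a component of a factor. -/
theorem component_of_centralProduct [Finite S] [Fact p.Prime] (hS : IsPGroup p S)
    (hF : F.IsSaturated p) {S₁ S₂ : Subgroup Ω} {F₁ : Cfsg.FusionSystem S₁}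
    {F₂ : Cfsg.FusionSystem S₂} (h₁ : F₁.IsSaturated p) (h₂ : F₂.IsSaturated p)
    (h₁F : F₁.IsSubsystemOf F) (h₂F : F₂.IsSubsystemOf F) (hc : IsCentralProductOf F₁ F₂ F)
    {C : Cfsg.FusionSystem T} (hC : C.IsComponentIn F p) :
    C.IsComponentIn F₁ p ∨ C.IsComponentIn F₂ p := by
  have hS₁ : S₁ ≤ S := dom_le (h₁F S₁ (subtype_mem F₁ le_rfl))
  have hS₂ : S₂ ≤ S := dom_le (h₂F S₂ (subtype_mem F₂ le_rfl))
  have : Finite S₁ := finite_of_le hS₁
  have : Finite S₂ := finite_of_le hS₂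
  have hn₂ : F₂.IsNormalIn F p := isNormalIn_centralProduct hc hF (self_isNormalIn h₂)
  have hn₁ : F₁.IsNormalIn F p :=
    isNormalIn_centralProduct (centralProduct_symm hc) hF (self_isNormalIn h₁)
  rcases le_or_le_fixSub hS hF hC hn₁ with h | ⟨-, hc₁⟩
  · exact Or.inl (isComponentIn_of_le hS hF hC hn₁ h)
  rcases le_or_le_fixSub hS hF hC hn₂ with h | ⟨-, hc₂⟩
  · exact Or.inr (isComponentIn_of_le hS hF hC hn₂ h)
  exfalso
  obtain ⟨h⟩ := exists_cp hc
  have hTS : T ≤ S := Transport.subnormal_le hC.1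
  have : Finite T := finite_of_le hTS
  refine Cfsg.Agent.S5148.result p (hS.to_le hTS) C hC.2 ⟨⟨fun x y => Subtype.ext ?_⟩⟩
  obtain ⟨a, ha, b, hb, hab⟩ := h.exists_mul (hTS y.2)
  show (x : Ω) * y = y * x
  have e1 : a * (x : Ω) = x * a := Subgroup.mem_centralizer_iff.1 (hc₁ x.2).2 a ha
  have e2 : b * (x : Ω) = x * b := Subgroup.mem_centralizer_iff.1 (hc₂ x.2).2 b hb
  rw [hab, ← mul_assoc, ← e1, mul_assoc, ← e2, mul_assoc]

end CfsgLib.Fusion.Comp
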