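import Cfsg.Agent.Lib.Fusion.Comp.Extend
import Cfsg.Agent.Lib.FusionConstrained.Basic
import Cfsg.Agent.Lib.FusionWeakNormal.Residual

/-!
# A component lies in a normal subsystem or centralizes its group
-/

set_option autoImplicit false
set_option linter.unusedSectionVars false

namespace CfsgLib.Fusion.Comp

open Cfsg Cfsg.FusionSystem CfsgLib.Fusion CfsgLib.FusionQuot CfsgLib.Fusion.Inter

variable {Ω Ω' : Type*} [Group Ω] [Group Ω'] {S T U V : Subgroup Ω} {S' : Subgroup Ω'}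
variable {C : Cfsg.FusionSystem S} {C' : Cfsg.FusionSystem S'} {θ : S →* Ω'} {Z : Subgroup Ω}
variable {p : ℕ}

theorem preimageAlong_restrict (hVS : V ≤ S) (hker : ∀ s : S, θ s = 1 → (s : Ω) ∈ V)
    {P' : Subgroup Ω'} (hP' : P' ≤ (θ.comp (Subgroup.inclusion hVS)).range) :
    preimageAlong (θ.comp (Subgroup.inclusion hVS)) P' = preimageAlong θ P' := by
  ext x
  rw [mem_preimageAlong, mem_preimageAlong]
  constructor
  · rintro ⟨hx, hm⟩
    exact ⟨hVS hx, hm⟩
  · rintro ⟨hx, hm⟩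
    obtain ⟨v, hv⟩ := hP' hm
    have h1 : θ ((Subgroup.inclusion hVS v)⁻¹ * ⟨x, hx⟩) = 1 := by
      rw [map_mul, map_inv]
      exact inv_mul_eq_one.2 hv
    have h2 := hker _ h1
    have hxV : x ∈ V := by
      have := V.mul_mem v.2 h2
      rwa [Subgroup.coe_mul, Subgroup.coe_inv, Subgroup.coe_inclusion, mul_inv_cancel_left] at this
    exact ⟨hxV, hm⟩

/-- The image of a weakly normal subsystem containing the kernel is weakly normal. -/
theorem exists_image_weaklyNormal [Finite S] [Fact p.Prime] (hS : IsPGroup p S)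
    {D : Cfsg.FusionSystem V} (hD : D.IsWeaklyNormalIn C p) (hZ : C.StronglyClosed Z) (hZV : Z ≤ V)
    (hC' : C.IsFactorSystem Z θ C') :
    ∃ D' : Cfsg.FusionSystem (θ.comp (Subgroup.inclusion hD.2.2.2.1.1)).range,
      D'.IsWeaklyNormalIn C' p := by
  obtain ⟨hDs, hCs, hsub, hVsc, hDinv, hfrat⟩ := hD
  have hVS := hVsc.1
  set θV := θ.comp (Subgroup.inclusion hVS) with hθV
  have : Finite V := finite_of_le hVS
  have hker : ∀ s : S, θ s = 1 → (s : Ω) ∈ V := fun s hs => hZV ((hC'.2.1 s).1 hs)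
  have hZD : D.StronglyClosed Z := ⟨hZV, fun R hR φ hφ => hZ.2 R hR φ (hsub R hφ)⟩
  obtain ⟨D', hD'⟩ := exists_factorSystem D θV (S' := θV.range) rfl
    (fun v => hC'.2.1 (Subgroup.inclusion hVS v)) hZD
  have hV' : θV.range ≤ S' := by
    rw [← hC'.2.2.1]
    rintro _ ⟨v, rfl⟩
    exact ⟨_, rfl⟩
  have hmemV : ∀ v : V, θV v ∈ θV.range := fun v => ⟨v, rfl⟩
  have hsub' : D'.IsSubsystemOf C' := by
    intro P' φ' hφ'
    obtain ⟨hP', φ, hφ, hPV, hφV, hm, hv⟩ := (hD'.2.2.2 P' φ').1 hφ'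
    have e := preimageAlong_restrict hVS hker hP'
    refine (hC'.2.2.2 P' φ').2 ⟨hP'.trans hV', φ.comp (Subgroup.inclusion e.ge),
      restrict_mem (hsub _ hφ) e.ge, preimageAlong_le P', fun x => hVS (hφV _),
      fun x => hm (Subgroup.inclusion e.ge x), fun x => hv (Subgroup.inclusion e.ge x)⟩
  have himage : imageAlong θ V = θV.range := by
    ext y
    rw [mem_imageAlong]
    constructor
    · rintro ⟨x, hx, hxV, rfl⟩
      exact ⟨⟨x, hxV⟩, rfl⟩
    · rintro ⟨v, rfl⟩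
      exact ⟨v, hVS v.2, v.2, rfl⟩
  have hsc' : C'.StronglyClosed θV.range := by
    rw [← himage]
    exact stronglyClosed_imageAlong hZ hC' hVsc
  have : Finite S' := finite_of_isFactorSystem hC'
  have hleVpre : V ≤ preimageAlong θ θV.range := fun x hx =>
    mem_preimageAlong.2 ⟨hVS hx, ⟨⟨x, hx⟩, rfl⟩⟩
  have hlift : ∀ α' ∈ C'.autGroup θV.range, ∃ a ∈ C.autGroup V,
      ∀ v : V, θV (a v) = ((α' ⟨θV v, hmemV v⟩ : θV.range) : Ω') := by
    intro α' hα'
    obtain ⟨-, φ, hφ, hPS, hφS, hP', hv⟩ :=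
      (hC'.2.2.2 _ _).1 ((mem_autGroup_iff_hom hV').1 hα')
    obtain ⟨a, ha, hax⟩ := LayerCore.exists_aut_of_mapsTo (restrict_mem hφ hleVpre)
      fun x => stronglyClosed_apply_mem hVsc (restrict_mem hφ hleVpre) x x.2
    refine ⟨a, ha, fun v => ?_⟩
    have h1 := hv (Subgroup.inclusion hleVpre v)
    show θ (Subgroup.inclusion hVS (a v)) = _
    rw [show Subgroup.inclusion hVS (a v) = (⟨_, hφS (Subgroup.inclusion hleVpre v)⟩ : S) from
      Subtype.ext (hax v)]
    exact h1.symm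
  refine ⟨D', ⟨isSaturated_factor (hS.to_le hVS) hDs hZD hD', isSaturated_factor hS hCs hZ hC',
    hsub', hsc', fun P' hP' φ' hφ' α' hα' => ?_, fun P' hP' φ' hφ' => ?_⟩⟩
  · obtain ⟨-, φ, hφ, hind⟩ := (hD'.2.2.2 P' φ').1 hφ'
    obtain ⟨a, ha, hax⟩ := hlift α' hα'
    obtain ⟨χ, hχ, hχx⟩ := hDinv _ (preimageAlong_le P') φ hφ a ha
    set img' := (P'.subgroupOf θV.range).map (θV.range.subtype.comp α'.toMonoidHom) with himg'
    have himg : img' ≤ θV.range := by
      rintro _ ⟨y, -, rfl⟩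
      exact (α' y).2
    have hback : ∀ z : img', ((α'.symm ⟨z, himg z.2⟩ : θV.range) : Ω') ∈ P' := by
      rintro ⟨_, y, hy, rfl⟩
      show ((α'.symm (α' y) : θV.range) : Ω') ∈ P'
      rw [MulEquiv.symm_apply_apply]
      exact hy
    let β : img' →* P' := ((θV.range.subtype.comp α'.symm.toMonoidHom).comp
      (Subgroup.inclusion himg)).codRestrict P' hback
    let χ' : img' →* Ω' := ((θV.range.subtype.comp α'.toMonoidHom).comp
      (φ'.codRestrict θV.range (fun y => map_mem hφ' y))).comp β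
    have hle : preimageAlong θV img' ≤
        ((preimageAlong θV P').subgroupOf V).map (V.subtype.comp a.toMonoidHom) := by
      intro x hx
      obtain ⟨hxV, hxi⟩ := mem_preimageAlong.1 hx
      refine ⟨a.symm ⟨x, hxV⟩, mem_preimageAlong.2 ⟨(a.symm ⟨x, hxV⟩).2, ?_⟩,
        congrArg Subtype.val (a.apply_symm_apply ⟨x, hxV⟩)⟩
      obtain ⟨y, hy, hyx⟩ := hxi
      have h1 := hax (a.symm ⟨x, hxV⟩)
      rw [a.apply_symm_apply, ← hyx] at h1
      have h2 := α'.injective (Subtype.ext h1)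
      rw [h2] at hy
      exact hy
    refine ⟨χ', (hD'.2.2.2 img' χ').2 ⟨himg, _, restrict_mem hχ hle, preimageAlong_le img',
      map_mem (restrict_mem hχ hle), fun x => (mem_preimageAlong.1 x.2).2, fun x => ?_⟩,
      fun y hy hy' => ?_⟩
    · obtain ⟨hxV, hxi⟩ := mem_preimageAlong.1 x.2
      obtain ⟨s, hs, hsx⟩ := hle x.2
      have hsx' : a s = ⟨x, hxV⟩ := Subtype.ext hsx
      have hsm : θV s ∈ P' := (mem_preimageAlong.1 hs).2
      have hβ : β ⟨_, hxi⟩ = ⟨θV s, hsm⟩ := by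
        refine Subtype.ext ?_
        show ((α'.symm ⟨θV ⟨x, hxV⟩, himg hxi⟩ : θV.range) : Ω') = θV s
        have : α' ⟨θV s, hmemV s⟩ = ⟨θV ⟨x, hxV⟩, himg hxi⟩ :=
          Subtype.ext (by rw [← hax s, hsx'])
        rw [← this, MulEquiv.symm_apply_apply]
      show ((α' ⟨φ' (β ⟨_, hxi⟩), _⟩ : θV.range) : Ω') = θV ⟨χ (Subgroup.inclusion hle x), _⟩
      have hφs : φ ⟨s, hs⟩ ∈ V := map_mem hφ _
      have h3 : φ' (β ⟨_, hxi⟩) = θV ⟨φ ⟨s, hs⟩, hφs⟩ := by
        rw [hβ]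
        exact induced_apply hind ⟨s, hs⟩ s.2 hsm hφs
      have h5 : χ (Subgroup.inclusion hle x) = ((a ⟨φ ⟨s, hs⟩, hφs⟩ : V) : Ω) := by
        refine Eq.trans (congrArg χ (show Subgroup.inclusion hle x = ⟨((a s : V) : Ω), s, hs, rfl⟩
          from Subtype.ext hsx.symm)) ?_
        exact hχx ⟨s, hs⟩ hφs ⟨s, hs, rfl⟩
      refine Eq.trans ?_ ((hax ⟨φ ⟨s, hs⟩, hφs⟩).symm.trans (congrArg θV (Subtype.ext h5.symm)))
      exact congrArg (fun t : θV.range => ((α' t : θV.range) : Ω')) (Subtype.ext h3)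
    · show ((α' ⟨φ' (β ⟨_, hy'⟩), _⟩ : θV.range) : Ω') = _
      have hb : β ⟨_, hy'⟩ = y := by
        refine Subtype.ext ?_
        show ((α'.symm ⟨((α' ⟨y, hP' y.2⟩ : θV.range) : Ω'), _⟩ : θV.range) : Ω') = y
        rw [MulEquiv.symm_apply_apply]
      simp only [hb]
  · obtain ⟨-, φ, hφ, hind⟩ := (hC'.2.2.2 P' φ').1 hφ'
    have e := preimageAlong_restrict hVS hker hP'
    have hPV : preimageAlong θ P' ≤ V := e ▸ preimageAlong_le P'
    obtain ⟨a, ha, φ₀, hφ₀, hx⟩ := hfrat _ hPV φ hφ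
    obtain ⟨φ'', hφ'', hi'⟩ := exists_down hS hCs hZ hC' hV'
      (restrict_mem ((mem_autGroup_iff_hom hVS).1 ha)
        (show preimageAlong θ θV.range ≤ V from
          (preimageAlong_restrict hVS hker le_rfl) ▸ preimageAlong_le _))
    have hval : ∀ v : V, φ'' ⟨θV v, hmemV v⟩ = θV (a v) := fun v => by
      have hv : (v : Ω) ∈ preimageAlong θ θV.range := hleVpre v.2
      exact induced_apply hi' ⟨v, hv⟩ (hVS v.2) (hmemV v) (hVS (a v).2)
    obtain ⟨α, hα, hαx⟩ := LayerCore.exists_aut_of_mapsTo hφ'' (by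
      rintro ⟨y, v, rfl⟩
      rw [hval]
      exact hmemV _)
    have hφ₀e : φ₀.comp (Subgroup.inclusion e.le) ∈ D.Hom (preimageAlong θV P') :=
      restrict_mem hφ₀ e.le
    obtain ⟨φ₀', hφ₀', hi⟩ := exists_down (hS.to_le hVS) hDs hZD hD' hP' hφ₀e
    refine ⟨α, hα, φ₀', hφ₀', fun y hy => ?_⟩
    obtain ⟨v, hv⟩ := hP' y.2
    have hvm : θV v ∈ P' := hv.symm ▸ y.2
    have hvp : (v : Ω) ∈ preimageAlong θ P' := mem_preimageAlong.2 ⟨hVS v.2, hvm⟩
    obtain rfl : (⟨θV v, hvm⟩ : P') = y := Subtype.ext hv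
    have h1 := induced_apply hind ⟨v, hvp⟩ (hVS v.2) hvm (map_mem hφ _)
    have hvp' : (v : Ω) ∈ preimageAlong θV P' := mem_preimageAlong.2 ⟨v.2, hvm⟩
    have h2 := induced_apply hi ⟨v, hvp'⟩ v.2 hvm (map_mem hφ₀e _)
    have hb := map_mem hφ₀ ⟨v, hvp⟩
    have h3 : (⟨φ₀' ⟨θV v, hvm⟩, hy⟩ : θV.range) = ⟨θV ⟨φ₀ ⟨v, hvp⟩, hb⟩, hmemV _⟩ :=
      Subtype.ext h2
    rw [h3, hαx, hval]
    refine h1.trans (congrArg θ (Subtype.ext ?_))
    exact hx ⟨v, hvp⟩ hb

/-- In a quasisimple system a normal subsystem is over everything or over a central subgroup. -/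
theorem normal_over_center_or_top [Finite S] [Fact p.Prime] (hS : IsPGroup p S)
    (hq : C.Quasisimple p) {N : Cfsg.FusionSystem U} (hN : N.IsNormalIn C p) :
    S ≤ U ∨ U ≤ C.center := by
  have hZc := CfsgLib.FusionQuot.isCentral_center C
  have hZ : C.StronglyClosed C.center := Components.stronglyClosed_center C
  have hZn : C.IsNormal C.center := CfsgLib.FusionConstrained.isNormal_of_isCentral hZc
  have hU : C.StronglyClosed U := hN.1.2.2.2.1
  obtain ⟨D, hD, -⟩ := CommProd.exists_product hS hq.1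
    (FittingInner.inner_isNormalIn hS hq.1 hZn) hN fun a ha b hb =>
      (C.center_le_centralizer ha b (hU.1 hb)).symm
  obtain ⟨E, hE⟩ := exists_factorSystem_quotient C C.center hZ
  obtain ⟨-, hne, hsimp⟩ := hq.2.2 E hE
  obtain ⟨D', hD'⟩ := exists_image_weaklyNormal hS hD.1 hZ le_sup_left hE
  have hE' : IsPGroup p (⊤ : Subgroup (S ⧸ (C.center).subgroupOf S)) := isPGroup_of_isFactorSystem hS hE
  have : Finite (⊤ : Subgroup (S ⧸ (C.center).subgroupOf S)) := finite_of_isFactorSystem hE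
  rcases hsimp _ _ (CfsgLib.FusionWeakNormal.residual_isNormalIn hE' hD') with h | ⟨h, -⟩
  · refine Or.inr fun u hu => ?_
    have huV : u ∈ C.center ⊔ U := Subgroup.mem_sup_right hu
    have h1 : QuotientGroup.mk' ((C.center).subgroupOf S) ⟨u, hU.1 hu⟩ ∈ (⊥ : Subgroup _) :=
      h.le ⟨⟨u, huV⟩, rfl⟩
    exact (hE.2.1 ⟨u, hU.1 hu⟩).1 (Subgroup.mem_bot.1 h1)
  · refine Or.inl ?_
    have hSV : ∀ x ∈ S, x ∈ C.center ⊔ U := by
      intro x hx
      obtain ⟨⟨v, hv⟩, hvx⟩ := h.ge (Subgroup.mem_top (QuotientGroup.mk' ((C.center).subgroupOf S) ⟨x, hx⟩))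
      have hvS : v ∈ S := (sup_le (center_le C) hU.1) hv
      have h2 : (((⟨v, hvS⟩ : S)⁻¹ * ⟨x, hx⟩ : S) : Ω) ∈ C.center := (hE.2.1 _).1 (by
        rw [map_mul, map_inv]
        exact inv_mul_eq_one.2 hvx)
      have := (C.center ⊔ U).mul_mem hv (Subgroup.mem_sup_left h2)
      rwa [Subgroup.coe_mul, Subgroup.coe_inv, mul_inv_cancel_left] at this
    have key : ∀ {P : Subgroup Ω} {φ : P →* Ω}, φ ∈ C.Hom P → ∀ x : P, (x : Ω)⁻¹ * φ x ∈ U := by
      intro P φ hφ x
      obtain ⟨ψ, hψ, hag, hfix⟩ := hZc.2 P φ hφ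
      have hx := hSV x (dom_le hφ x.2)
      rw [← SetLike.mem_coe, Subgroup.coe_mul_of_right_le_normalizer_left C.center U
        (fun y hy => stronglyClosed_le_normalizer hZ (hU.1 hy))] at hx
      obtain ⟨z, hz, u, hu, hzu⟩ := hx
      have hzu' : z * u = (x : Ω) := hzu
      have huP : u ∈ P ⊔ C.center := by
        rw [show u = z⁻¹ * x by rw [← hzu', inv_mul_cancel_left]]
        exact mul_mem (Subgroup.mem_sup_right (inv_mem hz)) (Subgroup.mem_sup_left x.2)
      have h1 : φ x = z * ψ ⟨u, huP⟩ := by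
        rw [← hag x, show Subgroup.inclusion le_sup_left x =
          Subgroup.inclusion le_sup_right (⟨z, hz⟩ : C.center) * ⟨u, huP⟩ from Subtype.ext hzu'.symm,
          map_mul, hfix]
      rw [h1, ← hzu', mul_inv_rev, mul_assoc, inv_mul_cancel_left]
      exact U.mul_mem (U.inv_mem hu) (stronglyClosed_apply_mem hU hψ ⟨u, huP⟩ hu)
    refine hq.2.1.symm.le.trans ((Subgroup.closure_le _).2 ?_)
    rintro _ ⟨P, α, x, hP, -, rfl⟩
    exact key ((mem_autGroup_iff_hom hP).1 α.2) x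

variable {F : Cfsg.FusionSystem S}

/-- The inductive step: a component of a normal subsystem meeting `U` as in the hypothesis
centralizes `U`. -/
theorem centralizerHom_of_inf [Finite S] [Fact p.Prime] (hS : IsPGroup p S) (hF : F.IsSaturated p)
    {M : Cfsg.FusionSystem V} (hM : M.IsNormalIn F p) (hU : F.StronglyClosed U)
    {D : Cfsg.FusionSystem T} (hTV : T ≤ V) (hsub : D.IsSubsystemOf M) (hq : D.Quasisimple p)
    (hfix : ∀ P, D.Hom P ⊆ M.centralizerHom (V ⊓ U) P) :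
    ∀ P, D.Hom P ⊆ F.centralizerHom U P := by
  classical
  have hMF := hM.1.2.2.1
  have hV : F.StronglyClosed V := hM.1.2.2.2.1
  have hTS : T ≤ S := hTV.trans hV.1
  have : Finite T := finite_of_le hTS
  have : Finite V := finite_of_le hV.1
  have hTp : IsPGroup p T := hS.to_le hTS
  have hext : ∀ (P : Subgroup Ω) (hP : P ≤ T) (a : MulAut P), a ∈ D.autGroup P →
      (orderOf a).Coprime p → ∃ ψ ∈ F.Hom (P ⊔ U),
        (∀ x : P, ψ (Subgroup.inclusion le_sup_left x) = ((a x : P) : Ω)) ∧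
        ∀ u : U, ψ (Subgroup.inclusion le_sup_right u) = u := by
    intro P hP a ha hco
    set X := P ⊔ (V ⊓ U) with hX
    obtain ⟨-, -, -, φ, hφ, hag, hfixW⟩ := hfix P ((mem_autGroup_iff_hom hP).1 ha)
    have hXV : X ≤ V := sup_le (hP.trans hTV) inf_le_left
    have : Finite X := finite_of_le (hXV.trans hV.1)
    obtain ⟨b, hb, hbx⟩ := LayerCore.exists_aut_of_mapsTo (S := V) (F := M) hφ (forall_mem_of_sup
      (fun x => by rw [hag]; exact Subgroup.mem_sup_left (a x).2)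
      (fun w => by rw [hfixW]; exact Subgroup.mem_sup_right w.2))
    obtain ⟨n, hn, hnag⟩ := exists_coprime_pow (le_sup_left : P ≤ X) hco b
      fun x => Subtype.ext ((hbx _).trans (hag x))
    have hbfix : ∀ x : X, (x : Ω) ∈ U → b x = x := fun x hx => Subtype.ext ((hbx x).trans
      ((congrArg φ (Subtype.ext rfl)).trans (hfixW ⟨x, hXV x.2, hx⟩)))
    have hc : Cond M p U X (b ^ n) := by
      refine ⟨hXV, le_sup_right, pow_mem hb n, hn, fun x hx => ?_⟩
      have : ∀ k : ℕ, (b ^ k) x = x := by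
        intro k
        induction k with
        | zero => rfl
        | succ k ih => rw [pow_succ, MulAut.mul_apply, hbfix x hx, ih]
      exact this n
    obtain ⟨ψ, hψ, hψX, hψU, hψd⟩ := hasExt hS hF hM hU hc
    have hNS : X ⊔ U ≤ S := dom_le hψ
    have : Finite ↥(X ⊔ U) := finite_of_le hNS
    obtain ⟨κ₁, hκ₁, hκ₁x⟩ := LayerCore.exists_aut_of_mapsTo hψ (forall_mem_of_sup
      (fun x => by rw [hψX]; exact Subgroup.mem_sup_left ((b ^ n) x).2)
      fun u => Subgroup.mem_sup_right (hψU u))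
    have hκW : ∀ w : ↥(X ⊔ U), (w : Ω) ∈ V ⊓ U → κ₁ w = w := fun w hw => by
      have hwX : (w : Ω) ∈ X := Subgroup.mem_sup_right hw
      refine Subtype.ext ((hκ₁x w).trans ((congrArg ψ
        (show w = Subgroup.inclusion le_sup_left (⟨w, hwX⟩ : X) from rfl)).trans ?_))
      rw [hψX, hc.fix ⟨w, hwX⟩ hw.2]
    obtain ⟨m, hm, hmag⟩ := exists_coprime_pow (le_sup_left : X ≤ X ⊔ U) hn κ₁
      fun x => Subtype.ext ((hκ₁x _).trans (hψX x))
    have hu₁ : ∀ u : ↥(X ⊔ U), (u : Ω) ∈ U → (u : Ω)⁻¹ * ((κ₁ u : ↥(X ⊔ U)) : Ω) ∈ V ⊓ U :=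
      fun u hu => by
        rw [hκ₁x]
        exact ⟨hψd ⟨u, hu⟩, U.mul_mem (U.inv_mem hu) (hψU ⟨u, hu⟩)⟩
    have hdisp := LayerCore.disp_pow κ₁ (L := U.subgroupOf (X ⊔ U))
      (K := (V ⊓ U).subgroupOf (X ⊔ U)) (fun w hw => by rw [hκW w hw]; exact hw)
      (fun w hw => hu₁ w hw) m
    have hfixU : ∀ u : U, (κ₁ ^ m) (Subgroup.inclusion le_sup_right u) =
        Subgroup.inclusion le_sup_right u := by
      intro u
      refine Stability.eq_self_of_disp_fixed (hS.to_le hNS) _ hm ?_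
      have h1 : (((Subgroup.inclusion le_sup_right u : ↥(X ⊔ U))⁻¹ *
          (κ₁ ^ m) (Subgroup.inclusion le_sup_right u) : ↥(X ⊔ U)) : Ω) ∈ V ⊓ U :=
        hdisp _ u.2
      have hk : ∀ k : ℕ, ∀ w : ↥(X ⊔ U), (w : Ω) ∈ V ⊓ U → (κ₁ ^ k) w = w := by
        intro k
        induction k with
        | zero => exact fun w _ => rfl
        | succ k ih => exact fun w hw => by rw [pow_succ, MulAut.mul_apply, hκW w hw, ih w hw]
      exact hk m _ h1
    have hle : P ⊔ U ≤ X ⊔ U := sup_le_sup_right le_sup_left U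
    refine ⟨_, restrict_mem ((mem_autGroup_iff_hom hNS).1 (pow_mem hκ₁ m)) hle, fun x => ?_,
      fun u => congrArg Subtype.val (hfixU u)⟩
    exact congrArg Subtype.val
      ((hmag (Subgroup.inclusion le_sup_left x)).trans (congrArg _ (hnag x)))
  have hUn := stronglyClosed_le_normalizer hU
  have hTU : T ≤ centralizerIn S U := by
    refine le_inf hTS (hq.2.1.symm.le.trans ((Subgroup.closure_le _).2 ?_))
    rintro _ ⟨P, α, x, hP, hα, rfl⟩
    have : Finite P := finite_of_le hP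
    have : Finite (MulAut P) := finite_mulAut
    let K : Subgroup (D.autGroup P) :=
      { carrier := {β | ∀ x : P, (x : Ω)⁻¹ * (((β : MulAut P) x : P) : Ω) ∈
          Subgroup.centralizer (U : Set Ω)}
        one_mem' := fun x => by simp
        mul_mem' := fun {a b} ha hb x => by
          have h1 := Subgroup.mul_mem _ (hb x) (ha ((b : MulAut P) x))
          rwa [mul_assoc, mul_inv_cancel_left] at h1
        inv_mem' := fun {a} ha x => by
          have h1 := Subgroup.inv_mem _ (ha (((a : MulAut P)⁻¹ : MulAut P) x))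
          rwa [MulAut.apply_inv_self, mul_inv_rev, inv_inv] at h1 }
    suffices hle : pResidual p (D.autGroup P) ≤ K from hle hα x
    refine (Subgroup.closure_le _).2 fun a ha y => ?_
    replace ha : (orderOf (a : MulAut P)).Coprime p := by rw [Subgroup.orderOf_coe]; exact ha
    obtain ⟨ψ, hψ, hag, hfu⟩ := hext P hP a a.2 ha
    refine Subgroup.mem_centralizer_iff.2 fun u hu => ?_
    have hyS : (y : Ω) ∈ S := hTS (hP y.2)
    -- `ψ` fixes the commutator of `y` and `u`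
    set z : Ω := (((a : MulAut P) y : P) : Ω) with hz
    have hcU : (y : Ω) * u⁻¹ * (y : Ω)⁻¹ ∈ U := conj_mem_of_mem_normalizer (hUn hyS) (U.inv_mem hu)
    have h1 : ψ (Subgroup.inclusion le_sup_left y * (Subgroup.inclusion le_sup_right ⟨u, hu⟩)⁻¹ *
        (Subgroup.inclusion le_sup_left y)⁻¹) = (y : Ω) * u⁻¹ * (y : Ω)⁻¹ :=
      (congrArg ψ (Subtype.ext rfl)).trans (hfu ⟨_, hcU⟩)
    rw [map_mul, map_mul, map_inv, map_inv, hfu, hag, ← hz] at h1
    have h2 : u⁻¹ * ((y : Ω)⁻¹ * z) = (y : Ω)⁻¹ * z * u⁻¹ := by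
      calc u⁻¹ * ((y : Ω)⁻¹ * z) = (y : Ω)⁻¹ * ((y : Ω) * u⁻¹ * (y : Ω)⁻¹) * z := by group
        _ = (y : Ω)⁻¹ * (z * u⁻¹ * z⁻¹) * z := by rw [h1]
        _ = (y : Ω)⁻¹ * z * u⁻¹ := by group
    calc u * ((y : Ω)⁻¹ * z) = u * ((y : Ω)⁻¹ * z * u⁻¹) * u := by group
      _ = u * (u⁻¹ * ((y : Ω)⁻¹ * z)) * u := by rw [h2]
      _ = (y : Ω)⁻¹ * z * u := by group
  intro P φ hφ
  refine (Descent.hom_le_of_aut (E := LayerCore.fixedSystem D F U hU.1 hTU) hTp hq.1
    (fun Q hQ _ => ?_) P hφ).2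
  have : Finite Q := finite_of_le hQ.1
  have : Finite (MulAut Q) := finite_mulAut
  obtain ⟨-, P₀, hP₀⟩ := isFullyAutomized_of_isFullyNormalized hTp hq.1 hQ
  set K := ((LayerCore.fixedSystem D F U hU.1 hTU).autGroup Q).subgroupOf (D.autGroup Q) with hK
  suffices hKt : K = ⊤ by
    intro α hα
    exact (hKt.symm ▸ Subgroup.mem_top _ : (⟨α, hα⟩ : D.autGroup Q) ∈ K)
  refine LayerCore.eq_top_of_sylow_of_coprime K P₀ (fun a ha => ?_) fun a ha => ?_
  · rw [hP₀, Subgroup.mem_subgroupOf] at ha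
    exact Subgroup.mem_subgroupOf.2 (autInducedBy_le_autGroup _ hQ.1 ha)
  rw [← Subgroup.orderOf_coe] at ha
  obtain ⟨ψ, hψ, hag, hfu⟩ := hext Q hQ.1 a a.2 ha
  refine (mem_autGroup_iff_hom hQ.1).2 ⟨(mem_autGroup_iff_hom hQ.1).1 a.2,
    (mem_autGroup_iff_hom (hQ.1.trans hTS)).1 (CfsgLib.FusionQuot.autGroup_le_of_subsystem
      (fun X => (hsub X).trans (hMF X)) Q a.2),
    hQ.1.trans hTU, fun x => hTU (hQ.1 ((a : MulAut Q) x).2), ψ, hψ, hag, hfu⟩

/-- A component lies over a normal subsystem's group or centralizes it. -/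
theorem le_or_centralizerHom {T S : Subgroup Ω} {C : Cfsg.FusionSystem T} {F : Cfsg.FusionSystem S}
    (hC : C.IsSubnormalIn F p) :
    Fact p.Prime → C.Quasisimple p → Finite S → IsPGroup p S → F.IsSaturated p →
      ∀ (U : Subgroup Ω) (N : Cfsg.FusionSystem U), N.IsNormalIn F p →
        T ≤ U ∨ ∀ P, C.Hom P ⊆ F.centralizerHom U P := by
  induction hC with
  | refl C₀ q =>
    intro hp hq hfin hS hF U N hN
    rcases normal_over_center_or_top hS hq hN with h | hUZ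
    · exact Or.inl h
    refine Or.inr fun P φ hφ => ?_
    obtain ⟨ψ, hψ, hag, hfix⟩ := (CfsgLib.FusionQuot.isCentral_center C₀).2 P φ hφ
    exact ⟨hφ, fun x hx => ⟨dom_le hφ hx, Subgroup.mem_centralizer_iff.2 fun r hr =>
        (C₀.center_le_centralizer (hUZ hr) x (dom_le hφ hx)).symm⟩,
      fun x => ⟨map_mem hφ x, Subgroup.mem_centralizer_iff.2 fun r hr =>
        (C₀.center_le_centralizer (hUZ hr) _ (map_mem hφ x)).symm⟩, _,
      restrict_mem hψ (sup_le_sup_left hUZ P), fun x => hag x, fun r => hfix ⟨r, hUZ r.2⟩⟩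
  | @step U₀ S₀ C₀ M F₀ q hCM hM ih =>
    intro hp hq hfin hS hF U N hN
    have hV : F₀.StronglyClosed U₀ := hM.1.2.2.2.1
    have : Finite U₀ := finite_of_le hV.1
    obtain ⟨G, ⟨-, hGM, -⟩, -⟩ := exists_inter hS hF hM hN
    rcases ih hp hq inferInstance (hS.to_le hV.1) hM.1.1 _ G hGM with h | h
    · exact Or.inl (h.trans inf_le_right)
    · exact Or.inr (centralizerHom_of_inf hS hF hM hN.1.2.2.2.1 (Transport.subnormal_le hCM)
        (Components.subnormal_sub hCM) hq h)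

/-- A component outside a normal subsystem is over a subgroup fixed by it. -/
theorem le_or_le_fixSub {T S U : Subgroup Ω} {C : Cfsg.FusionSystem T} {F : Cfsg.FusionSystem S}
    [Finite S] [Fact p.Prime] (hS : IsPGroup p S) (hF : F.IsSaturated p) (hC : C.IsComponentIn F p)
    {N : Cfsg.FusionSystem U} (hN : N.IsNormalIn F p) :
    T ≤ U ∨ (T ≤ CenSub.fixSub N F ∧ T ≤ centralizerIn S U) := by
  rcases le_or_centralizerHom hC.1 inferInstance hC.2 inferInstance hS hF U N hN with h | h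
  · exact Or.inl h
  have h1 : T ≤ CenSub.centFocal F U := by
    refine hC.2.2.1.symm.le.trans ((Subgroup.closure_le _).2 ?_)
    rintro _ ⟨P, α, x, hP, -, rfl⟩
    exact Subgroup.subset_closure ⟨P, _, x, h P ((mem_autGroup_iff_hom hP).1 α.2), rfl⟩
  exact Or.inr ⟨h1.trans (CenSub.isFixed_centFocal hS hF hN).le_fixSub,
    h1.trans CenSub.centFocal_le⟩

end CfsgLib.Fusion.Comp
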