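import Cfsg.Agent.Lib.Fusion.Inter.Basic
import Cfsg.Agent.Lib.Fusion.CentralLift.Components

/-!
# Weakly normal subsystems of a quasisimple system over the whole group

A weakly normal subsystem of a quasisimple system over the same group is the whole system.
-/

set_option autoImplicit false
set_option linter.unusedSectionVars false

namespace CfsgLib.Fusion.Comp

open Cfsg Cfsg.FusionSystem CfsgLib.Fusion CfsgLib.FusionQuot CfsgLib.Fusion.Inter

variable {Ω Ω' : Type*} [Group Ω] [Group Ω'] {S : Subgroup Ω} {S' : Subgroup Ω'}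
variable {C D : Cfsg.FusionSystem S} {C' D' : Cfsg.FusionSystem S'} {θ : S →* Ω'} {Z : Subgroup Ω}
variable {p : ℕ}

theorem sys_ext {E₁ E₂ : Cfsg.FusionSystem S} (h : ∀ P, E₁.Hom P = E₂.Hom P) : E₁ = E₂ := by
  cases E₁
  cases E₂
  congr
  funext P
  exact h P

theorem exists_lift_top [Finite S] (hC : C.IsFactorSystem Z θ C') {α : MulAut S'}
    (hα : α ∈ C'.autGroup S') :
    ∃ a ∈ C.autGroup S, ∀ (s : S) (hs : θ s ∈ S'), θ (a s) = ((α ⟨θ s, hs⟩ : S') : Ω') := by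
  obtain ⟨-, φ, hφ, hPS, hφS, hP', hv⟩ := (hC.2.2.2 S' _).1 ((mem_autGroup_iff_hom le_rfl).1 hα)
  have hle : S ≤ preimageAlong θ S' := fun x hx =>
    mem_preimageAlong.2 ⟨hx, hC.2.2.1.le ⟨⟨x, hx⟩, rfl⟩⟩
  obtain ⟨a, ha, hax⟩ := LayerCore.exists_aut_of_mapsTo (restrict_mem hφ hle) fun x => hφS _
  refine ⟨a, ha, fun s hs => ?_⟩
  rw [show a s = (⟨_, hφS (Subgroup.inclusion hle s)⟩ : S) from Subtype.ext (hax s)]
  exact (hv (Subgroup.inclusion hle s)).symm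

theorem exists_down [Finite S] [Fact p.Prime] (hS : IsPGroup p S) (hC : C.IsSaturated p)
    (hZ : C.StronglyClosed Z) (hfac : C.IsFactorSystem Z θ C') {P' : Subgroup Ω'} (hP' : P' ≤ S')
    {φ : preimageAlong θ P' →* Ω} (hφ : φ ∈ C.Hom (preimageAlong θ P')) :
    ∃ φ' ∈ C'.Hom P', InducedAlong θ φ φ' := by
  obtain ⟨φ'', h1, h2⟩ :=
    (isSurjectiveMorphism_factor hS hC hZ θ C' hfac).1.2 _ φ hφ
  have e : imageAlong θ (preimageAlong θ P') = P' :=
    imageAlong_preimageAlong (by rw [hfac.2.2.1]; exact hP')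
  revert φ''
  rw [e]
  exact fun φ'' h1 h2 => ⟨φ'', h1, h2⟩

theorem exists_down_top [Finite S] [Fact p.Prime] (hS : IsPGroup p S) (hC : C.IsSaturated p)
    (hZ : C.StronglyClosed Z) (hfac : C.IsFactorSystem Z θ C') {a : MulAut S}
    (ha : a ∈ C.autGroup S) :
    ∃ α ∈ C'.autGroup S', ∀ (s : S) (hs : θ s ∈ S'), θ (a s) = ((α ⟨θ s, hs⟩ : S') : Ω') := by
  have : Finite S' := finite_of_isFactorSystem hfac
  obtain ⟨φ', hφ', hi⟩ := exists_down hS hC hZ hfac le_rfl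
    (restrict_mem ((mem_autGroup_iff_hom le_rfl).1 ha) (preimageAlong_le S'))
  obtain ⟨α, hα, hαx⟩ := LayerCore.exists_aut_of_mapsTo hφ' (map_mem hφ')
  refine ⟨α, hα, fun s hs => ?_⟩
  rw [hαx, induced_apply hi ⟨s, mem_preimageAlong.2 ⟨s.2, hs⟩⟩ s.2 hs (a _).2]
  rfl

/-- The image of a weakly normal subsystem over the whole group is normal in the factor system. -/
theorem factor_isNormalIn [Finite S] [Fact p.Prime] (hS : IsPGroup p S)
    (hD : D.IsWeaklyNormalIn C p) (hZ : C.StronglyClosed Z) (hC' : C.IsFactorSystem Z θ C')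
    (hD' : D.IsFactorSystem Z θ D') : D'.IsNormalIn C' p := by
  have hsub := hD.2.2.1
  have hZD : D.StronglyClosed Z := ⟨hZ.1, fun R hR φ hφ => hZ.2 R hR φ (hsub R hφ)⟩
  have : Finite S' := finite_of_isFactorSystem hC'
  have hr : θ.range = S' := hC'.2.2.1
  have hmem : ∀ s : S, θ s ∈ S' := fun s => hr ▸ ⟨s, rfl⟩
  refine ⟨⟨isSaturated_factor hS hD.1 hZD hD', isSaturated_factor hS hD.2.1 hZ hC',
    fun P' φ' hφ' => ?_, ⟨le_rfl, fun R _ φ hφ x => map_mem hφ x⟩, ?_, ?_⟩, ?_⟩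
  · obtain ⟨hP', φ, hφ, hind⟩ := (hD'.2.2.2 P' φ').1 hφ'
    exact (hC'.2.2.2 P' φ').2 ⟨hP', φ, hsub _ hφ, hind⟩
  · intro P' hP' φ' hφ' α' hα'
    obtain ⟨-, φ, hφ, hind⟩ := (hD'.2.2.2 P' φ').1 hφ'
    obtain ⟨a, ha, hax⟩ := exists_lift_top hC' hα'
    obtain ⟨χ, hχ, hχx⟩ := hD.2.2.2.2.1 _ (preimageAlong_le P') φ hφ a ha
    set img' := (P'.subgroupOf S').map (S'.subtype.comp α'.toMonoidHom) with himg'
    have himg : img' ≤ S' := by
      rintro _ ⟨y, -, rfl⟩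
      exact (α' y).2
    have hback : ∀ z : img', ((α'.symm ⟨z, himg z.2⟩ : S') : Ω') ∈ P' := by
      rintro ⟨_, y, hy, rfl⟩
      show ((α'.symm (α' y) : S') : Ω') ∈ P'
      rw [MulEquiv.symm_apply_apply]
      exact hy
    let β : img' →* P' :=
      ((S'.subtype.comp α'.symm.toMonoidHom).comp (Subgroup.inclusion himg)).codRestrict P' hback
    let χ' : img' →* Ω' := ((S'.subtype.comp α'.toMonoidHom).comp
      (φ'.codRestrict S' (fun y => map_mem hφ' y))).comp β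
    have hle : preimageAlong θ img' ≤
        ((preimageAlong θ P').subgroupOf S).map (S.subtype.comp a.toMonoidHom) := by
      intro x hx
      obtain ⟨hxS, hxi⟩ := mem_preimageAlong.1 hx
      refine ⟨a.symm ⟨x, hxS⟩, mem_preimageAlong.2 ⟨(a.symm ⟨x, hxS⟩).2, ?_⟩,
        congrArg Subtype.val (a.apply_symm_apply ⟨x, hxS⟩)⟩
      obtain ⟨y, hy, hyx⟩ := hxi
      have h1 := hax (a.symm ⟨x, hxS⟩) (hmem _)
      rw [a.apply_symm_apply, ← hyx] at h1
      have h2 := α'.injective (Subtype.ext h1)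
      rw [h2] at hy
      exact hy
    refine ⟨χ', (hD'.2.2.2 img' χ').2 ⟨himg, _, restrict_mem hχ hle,
      preimageAlong_le img', map_mem (restrict_mem hχ hle),
      fun x => (mem_preimageAlong.1 x.2).2, fun x => ?_⟩, fun y hy hy' => ?_⟩
    · obtain ⟨hxS, hxi⟩ := mem_preimageAlong.1 x.2
      obtain ⟨s, hs, hsx⟩ := hle x.2
      have hsx' : a s = ⟨x, hxS⟩ := Subtype.ext hsx
      have hsm : θ s ∈ P' := (mem_preimageAlong.1 hs).2
      have hβ : β ⟨_, hxi⟩ = ⟨θ s, hsm⟩ := by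
        refine Subtype.ext ?_
        show ((α'.symm ⟨θ ⟨x, hxS⟩, himg hxi⟩ : S') : Ω') = θ s
        have : α' ⟨θ s, hmem s⟩ = ⟨θ ⟨x, hxS⟩, himg hxi⟩ :=
          Subtype.ext (by rw [← hax s (hmem s), hsx'])
        rw [← this, MulEquiv.symm_apply_apply]
      show ((α' ⟨φ' (β ⟨_, hxi⟩), _⟩ : S') : Ω') = θ ⟨χ (Subgroup.inclusion hle x), _⟩
      have hφs : φ ⟨s, hs⟩ ∈ S := map_mem hφ _
      have h3 : φ' (β ⟨_, hxi⟩) = θ ⟨φ ⟨s, hs⟩, hφs⟩ := by
        rw [hβ]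
        exact induced_apply hind ⟨s, hs⟩ s.2 hsm hφs
      have h4 : θ (a ⟨φ ⟨s, hs⟩, hφs⟩) = ((α' ⟨θ ⟨φ ⟨s, hs⟩, hφs⟩, hmem _⟩ : S') : Ω') :=
        hax _ _
      have h5 : χ (Subgroup.inclusion hle x) = ((a ⟨φ ⟨s, hs⟩, hφs⟩ : S) : Ω) := by
        refine Eq.trans (congrArg χ (show Subgroup.inclusion hle x = ⟨((a s : S) : Ω), s, hs, rfl⟩ from
          Subtype.ext hsx.symm)) ?_
        exact hχx ⟨s, hs⟩ hφs ⟨s, hs, rfl⟩
      refine Eq.trans ?_ ((h4.symm).trans (congrArg θ (Subtype.ext h5.symm)))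
      exact congrArg (fun t : S' => ((α' t : S') : Ω')) (Subtype.ext h3)
    · show ((α' ⟨φ' (β ⟨_, hy'⟩), _⟩ : S') : Ω') = _
      have hb : β ⟨_, hy'⟩ = y := by
        refine Subtype.ext ?_
        show ((α'.symm ⟨((α' ⟨y, hP' y.2⟩ : S') : Ω'), _⟩ : S') : Ω') = y
        rw [MulEquiv.symm_apply_apply]
      simp only [hb]
  · intro P' hP' φ' hφ'
    obtain ⟨-, φ, hφ, hind⟩ := (hC'.2.2.2 P' φ').1 hφ'
    obtain ⟨a, ha, φ₀, hφ₀, hx⟩ := hD.2.2.2.2.2 _ (preimageAlong_le P') φ hφ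
    obtain ⟨α', hα', hαx⟩ := exists_down_top hS hD.2.1 hZ hC' ha
    obtain ⟨φ₀', hφ₀', hi⟩ := exists_down hS hD.1 hZD hD' hP' hφ₀
    refine ⟨α', hα', φ₀', hφ₀', fun y hy => ?_⟩
    obtain ⟨s, hs⟩ := hr.ge (hP' y.2)
    have hsm : θ s ∈ P' := hs.symm ▸ y.2
    have hsp : (s : Ω) ∈ preimageAlong θ P' := mem_preimageAlong.2 ⟨s.2, hsm⟩
    obtain rfl : (⟨θ s, hsm⟩ : P') = y := Subtype.ext hs
    rw [induced_apply hind ⟨s, hsp⟩ s.2 hsm (map_mem hφ _)]
    have h2 := induced_apply hi ⟨s, hsp⟩ s.2 hsm (map_mem hφ₀ _)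
    simp only [h2]
    rw [← hαx]
    exact congrArg θ (Subtype.ext (hx ⟨s, hsp⟩ (map_mem hφ₀ _)))
  · intro α hα
    have hW : S' ⊔ centralizerIn S' S' ≤ S' := sup_le le_rfl (centralizerIn_le S' S')
    have hαC : α ∈ C'.autGroup S' := (mem_autGroup_iff_hom le_rfl).2 (by
      obtain ⟨hP', φ, hφ, hind⟩ := (hD'.2.2.2 S' _).1 ((mem_autGroup_iff_hom le_rfl).1 hα)
      exact (hC'.2.2.2 S' _).2 ⟨hP', φ, hsub _ hφ, hind⟩)
    obtain ⟨β, hβ, hβx⟩ := LayerCore.exists_aut_of_mapsTo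
      (restrict_mem ((mem_autGroup_iff_hom le_rfl).1 hαC) hW)
      fun x => Subgroup.mem_sup_left (α _).2
    refine ⟨β, hβ, fun x => hβx _, fun c hc => ?_⟩
    have hst : ∀ x : ↥(S' ⊔ centralizerIn S' S'),
        ((β x : ↥(S' ⊔ centralizerIn S' S')) : Ω') ∈ S' ↔ (x : Ω') ∈ S' :=
      fun x => ⟨fun _ => hW x.2, fun _ => hW (β x).2⟩
    exact ⟨S'.mul_mem (S'.inv_mem (hW c.2)) (hW (β c).2),
      Subgroup.mul_mem _ (Subgroup.inv_mem _ hc.2) (cen_mem hW le_sup_left hst hc).2⟩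

/-- A weakly normal subsystem over the whole group of a quasisimple system is the whole system. -/
theorem eq_of_quasisimple [Finite S] [Fact p.Prime] (hS : IsPGroup p S) (hq : C.Quasisimple p)
    (hD : D.IsWeaklyNormalIn C p) : D = C := by
  classical
  have hZ : C.StronglyClosed C.center := Components.stronglyClosed_center C
  have hsub := hD.2.2.1
  have hZD : D.StronglyClosed C.center := ⟨hZ.1, fun R hR φ hφ => hZ.2 R hR φ (hsub R hφ)⟩
  set θ₀ := QuotientGroup.mk' ((C.center).subgroupOf S) with hθ₀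
  obtain ⟨E, hE⟩ := exists_factorSystem_quotient C C.center hZ
  obtain ⟨E', hE'⟩ := exists_factorSystem_quotient D C.center hZD
  obtain ⟨-, hne, hsimp⟩ := hq.2.2 E hE
  have heq : ∀ P, E'.Hom P = E.Hom P := by
    rcases hsimp _ E' (factor_isNormalIn hS hD hZ hE hE') with h | ⟨-, h⟩
    · exact absurd h hne
    · exact h
  refine sys_ext (hom_eq_of_autGroup_top_le hD.2.2 ?_)
  obtain ⟨-, P₀, hP₀⟩ := isFullyAutomized_of_isFullyNormalized hS hq.1
    (isFullyNormalized_of_stronglyClosed (stronglyClosed_self C))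
  have : Finite (MulAut S) := finite_mulAut
  intro b hb
  suffices hM : (D.autGroup S).subgroupOf (C.autGroup S) = ⊤ from
    (hM.symm ▸ Subgroup.mem_top _ : (⟨b, hb⟩ : C.autGroup S) ∈ (D.autGroup S).subgroupOf (C.autGroup S))
  refine LayerCore.eq_top_of_sylow_of_coprime _ P₀ (fun x hx => ?_) fun x hx => ?_
  · rw [hP₀] at hx
    exact autInducedBy_le_autGroup D le_rfl hx
  obtain ⟨α, hα, hαx⟩ := exists_down_top hS hq.1 hZ hE x.2
  have hαD : α ∈ E'.autGroup ⊤ := (mem_autGroup_iff_hom le_rfl).2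
    ((heq _).symm ▸ (mem_autGroup_iff_hom le_rfl).1 hα)
  obtain ⟨a, ha, hax⟩ := exists_lift_top hE' hαD
  refine coprime_mem_of_agree hS hD.2.2 le_rfl x.2 ((Subgroup.orderOf_coe x).symm ▸ hx) ha (V := C.center)
    (fun y hy => ?_) fun y => ?_
  · have h1 : (((x : MulAut S) y : S) : Ω) = y :=
      apply_eq_self_of_center ((mem_autGroup_iff_hom le_rfl).1 x.2) y hy
    have h2 : ((a y : S) : Ω) = y :=
      apply_eq_self_of_center (hsub S ((mem_autGroup_iff_hom le_rfl).1 ha)) y hy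
    exact Subtype.ext (h1.trans h2.symm)
  · set κy := (a⁻¹ * (x : MulAut S)) y with hκ
    have h1 : θ₀ (a κy) = θ₀ ((x : MulAut S) y) := by
      rw [hκ, MulAut.mul_apply, MulAut.apply_inv_self]
    rw [hax κy (Subgroup.mem_top _), hαx y (Subgroup.mem_top _)] at h1
    have h2 : θ₀ κy = θ₀ y := congrArg Subtype.val (α.injective (Subtype.ext h1))
    exact (hE.2.1 (y⁻¹ * κy)).1 (by
      show θ₀ (y⁻¹ * κy) = 1
      rw [map_mul, map_inv, h2, inv_mul_cancel])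

end CfsgLib.Fusion.Comp
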