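import Cfsg.Agent.Lib.Fusion.Inter.Normal
import Cfsg.Agent.Lib.Fusion.Comp.Quasisimple
import Cfsg.Agent.Lib.Fusion.CommutingProduct
import Cfsg.Agent.Lib.Fusion.GenFitting

/-!
# The layer and the generalized Fitting subsystem

A component lies in a normal subsystem as soon as its group does, so the layer exists; the
generalized Fitting subsystems exist and are normal.
-/

set_option autoImplicit false
set_option linter.unusedSectionVars false

namespace CfsgLib.Fusion.Comp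

open Cfsg Cfsg.FusionSystem CfsgLib.Fusion CfsgLib.FusionQuot CfsgLib.Fusion.Inter

variable {Ω : Type*} [Group Ω] {S T U U' T₁ T₂ : Subgroup Ω} {F : Cfsg.FusionSystem S} {p : ℕ}

/-- A saturated system is normal in itself. -/
theorem self_isNormalIn [Finite S] [Fact p.Prime] (hF : F.IsSaturated p) : F.IsNormalIn F p := by
  refine ⟨⟨hF, hF, fun _ => subset_rfl, stronglyClosed_self F, fun P hP φ hφ α hα => ?_,
    fun P hP φ hφ => factors_of_mem le_rfl hφ⟩, fun α hα => ?_⟩
  · obtain ⟨e, he, hex⟩ := exists_autImg_iso (P := P) le_rfl hα hP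
    have hχ : ((S.subtype.comp α.toMonoidHom).comp (φ.codRestrict _ (map_mem hφ))).comp
        e.symm.toMonoidHom ∈ F.Hom (autImg α P) :=
      mem_of_comp he.symm (mem_of_comp hφ ((mem_autGroup_iff_hom le_rfl).1 hα) (map_mem hφ)
        ((S.subtype.comp α.toMonoidHom).comp (φ.codRestrict _ (map_mem hφ))) fun _ => rfl)
        (fun y => (e.symm y).2) _ fun _ => rfl
    refine ⟨_, hχ, fun x hφx hαx => ?_⟩
    show ((α ⟨φ (e.symm ⟨_, hαx⟩), _⟩ : S) : Ω) = _
    have : e.symm ⟨_, hαx⟩ = x := e.injective (by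
      rw [MulEquiv.apply_symm_apply]; exact Subtype.ext (hex x).symm)
    simp [this]
  · have hW : S ⊔ centralizerIn S S ≤ S := sup_le le_rfl (centralizerIn_le S S)
    obtain ⟨β, hβ, hβx⟩ := LayerCore.exists_aut_of_mapsTo
      (restrict_mem ((mem_autGroup_iff_hom le_rfl).1 hα) hW)
      fun x => Subgroup.mem_sup_left (α _).2
    refine ⟨β, hβ, fun x => hβx _, fun c hc => ?_⟩
    have hst : ∀ x : ↥(S ⊔ centralizerIn S S),
        ((β x : ↥(S ⊔ centralizerIn S S)) : Ω) ∈ S ↔ (x : Ω) ∈ S :=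
      fun x => ⟨fun _ => hW x.2, fun _ => hW (β x).2⟩
    exact ⟨S.mul_mem (S.inv_mem (hW c.2)) (hW (β c).2),
      Subgroup.mul_mem _ (Subgroup.inv_mem _ hc.2) (cen_mem hW le_sup_left hst hc).2⟩

/-- A component whose group lies in the group of a normal subsystem is subnormal in it. -/
theorem subnormal_of_le {C : Cfsg.FusionSystem T} (hC : C.IsSubnormalIn F p) :
    Fact p.Prime → C.Quasisimple p → Finite S → IsPGroup p S → F.IsSaturated p →
      ∀ (U : Subgroup Ω) (D : Cfsg.FusionSystem U), D.IsNormalIn F p → T ≤ U →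
        C.IsSubnormalIn D p := by
  induction hC with
  | refl C₀ q =>
    intro hp hq hfin hS hF U D hD hTU
    obtain rfl : U = _ := le_antisymm hD.1.2.2.2.1.1 hTU
    rw [eq_of_quasisimple hS hq hD.1]
    exact .refl C₀ q
  | @step U₀ S₀ C₀ N F₀ q hCN hN ih =>
    intro hp hq hfin hS hF U D hD hTU
    have hU₀S : U₀ ≤ S₀ := hN.1.2.2.2.1.1
    have : Finite U₀ := finite_of_le hU₀S
    obtain ⟨G, ⟨-, hGN, hGD⟩, -⟩ := exists_inter hS hF hN hD
    exact .step (ih hp hq inferInstance (hS.to_le hU₀S) hN.1.1 _ G hGN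
      (le_inf (Transport.subnormal_le hCN) hTU)) hGD

theorem isComponentIn_of_le [Finite S] [Fact p.Prime] (hS : IsPGroup p S) (hF : F.IsSaturated p)
    {C : Cfsg.FusionSystem T} (hC : C.IsComponentIn F p) {D : Cfsg.FusionSystem U}
    (hD : D.IsNormalIn F p) (hTU : T ≤ U) : C.IsComponentIn D p :=
  ⟨subnormal_of_le hC.1 inferInstance hC.2 inferInstance hS hF U D hD hTU, hC.2⟩

/-- The layer exists. -/
theorem exists_layer [Finite S] [Fact p.Prime] (hS : IsPGroup p S) (hF : F.IsSaturated p) :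
    ∃ (T : Subgroup Ω) (E : Cfsg.FusionSystem T), E.IsLayerOf F p := by
  classical
  let Ok : ℕ → Prop := fun n => ∃ (T : Subgroup Ω) (E : Cfsg.FusionSystem T),
    E.IsNormalIn F p ∧ (∀ (U : Subgroup Ω) (C : Cfsg.FusionSystem U), C.IsComponentIn F p →
      C.IsSubsystemOf E) ∧ CfsgLib.FusionControl.size E = n
  have hex : ∃ n, Ok n := ⟨_, S, F, self_isNormalIn hF,
    fun U C hC => Components.subnormal_sub hC.1, rfl⟩
  obtain ⟨T, E, hE, hcomp, hn⟩ := Nat.find_spec hex
  refine ⟨T, E, hE, hcomp, fun R D hD hDc => ?_⟩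
  obtain ⟨G, ⟨hGF, hGE, hGD⟩, -⟩ := exists_inter hS hF hE hD
  have hGcomp : ∀ (U : Subgroup Ω) (C : Cfsg.FusionSystem U), C.IsComponentIn F p →
      C.IsSubsystemOf G := fun U C hC => Components.subnormal_sub
    (isComponentIn_of_le hS hF hC hGF (le_inf (dom_le (hcomp U C hC U (subtype_mem C le_rfl)))
      (dom_le (hDc U C hC U (subtype_mem C le_rfl))))).1
  have : Finite T := finite_of_le hE.1.2.2.2.1.1
  intro P φ hφ
  refine hGD.1.2.2.1 P ?_
  by_contra hφG
  refine Nat.find_min hex ?_ ⟨_, G, hGF, hGcomp, rfl⟩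
  exact hn ▸ CfsgLib.FusionControl.size_lt hGE.1.2.2.1 hφ hφG

/-- Central products in given positions are unique. -/
theorem centralProduct_unique {E₁ : Cfsg.FusionSystem T₁} {E₂ : Cfsg.FusionSystem T₂}
    {D : Cfsg.FusionSystem U} {D' : Cfsg.FusionSystem U'} (h : IsCentralProductOf E₁ E₂ D)
    (h' : IsCentralProductOf E₁ E₂ D') : U = U' ∧ ∀ P, D.Hom P = D'.Hom P := by
  obtain ⟨D₀, hD₀, Z, θ, -, -, -, hl, hr, hfac⟩ := h
  obtain ⟨D₀', hD₀', Z', θ', -, -, -, hl', hr', hfac'⟩ := h'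
  have hθ : θ = θ' := by
    refine MonoidHom.ext fun s => ?_
    have h1 : ((s : Ω × Ω).1, (1 : Ω)) ∈ T₁.prod T₂ :=
      Subgroup.mem_prod.2 ⟨(Subgroup.mem_prod.1 s.2).1, one_mem _⟩
    have h2 : ((1 : Ω), (s : Ω × Ω).2) ∈ T₁.prod T₂ :=
      Subgroup.mem_prod.2 ⟨one_mem _, (Subgroup.mem_prod.1 s.2).2⟩
    rw [show s = ⟨_, h1⟩ * ⟨_, h2⟩ from Subtype.ext (by simp), map_mul, map_mul, hl, hr, hl', hr']
  subst hθ
  have h0 : D₀ = D₀' := sys_ext fun P => Set.ext fun φ => (hD₀ P φ).trans (hD₀' P φ).symm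
  subst h0
  have hU : U = U' := hfac.2.2.1.symm.trans hfac'.2.2.1
  subst hU
  exact ⟨rfl, fun P => Set.ext fun φ => (hfac.2.2.2 P φ).trans (hfac'.2.2.2 P φ).symm⟩

/-- The product of the core with a layer. -/
theorem exists_fitting_product [Finite S] [Fact p.Prime] (hS : IsPGroup p S) (hF : F.IsSaturated p)
    {E : Cfsg.FusionSystem T} (hE : E.IsLayerOf F p) :
    ∃ D : Cfsg.FusionSystem (F.core ⊔ T), D.IsNormalIn F p ∧
      IsCentralProductOf (Cfsg.innerFusionSystem F.core) E D := by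
  have hK := CfsgLib.FusionQuot.isNormal_core F
  have hKs : F.core ≤ S := hK.1
  have : Finite F.core := finite_of_le hKs
  have hfix := LayerCore.layer_le_centralizerHom hS hF hE
  have hTC : T ≤ centralizerIn S F.core := (hfix T (subtype_mem E le_rfl)).2.1
  have hcomm : ∀ a ∈ F.core, ∀ b ∈ T, a * b = b * a := fun a ha b hb =>
    Subgroup.mem_centralizer_iff.1 (hTC hb).2 a ha
  have hI := FittingInner.inner_isNormalIn hS hF hK
  obtain ⟨D, hD, hprod⟩ := CommProd.exists_product hS hF hI hE.1 hcomm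
  refine ⟨D, hD, hprod (le_center _ ?_) (le_center _ ?_)⟩
  · refine CommProd.isCentral_of_fixes hS hI inf_le_left ?_
    rintro P φ ⟨hP, g, hg, hv⟩ x hx
    rw [hv x, hcomm g hg x hx.2, mul_inv_cancel_right]
  · refine CommProd.isCentral_of_fixes hS hE.1 inf_le_right fun P φ hφ x hx => ?_
    obtain ⟨-, -, -, ψ, -, hag, hψK⟩ := hfix P hφ
    rw [← hag x, show Subgroup.inclusion (le_sup_left : P ≤ P ⊔ F.core) x =
      Subgroup.inclusion le_sup_right ⟨(x : Ω), hx.1⟩ from rfl, hψK]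

/-- Generalized Fitting subsystems exist and are normal. -/
theorem fitting_exists_and_normal [Finite S] [Fact p.Prime] (hS : IsPGroup p S)
    (hF : F.IsSaturated p) :
    (∃ (U : Subgroup Ω) (D : Cfsg.FusionSystem U), D.IsGeneralizedFittingOf F p) ∧
      ∀ (U : Subgroup Ω) (D : Cfsg.FusionSystem U), D.IsGeneralizedFittingOf F p →
        D.IsNormalIn F p := by
  refine ⟨?_, fun U D hD => ?_⟩
  · obtain ⟨T, E, hE⟩ := exists_layer hS hF
    obtain ⟨D, -, hD⟩ := exists_fitting_product hS hF hE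
    exact ⟨_, D, T, E, hE, hD⟩
  · obtain ⟨T, E, hE, hprod⟩ := hD
    obtain ⟨D₁, hD₁, hprod₁⟩ := exists_fitting_product hS hF hE
    obtain ⟨rfl, heq⟩ := centralProduct_unique hprod₁ hprod
    rwa [← sys_ext heq]

end CfsgLib.Fusion.Comp
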